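import Mathlib
import Cfsg.Agent.ClosedTwo.Elem
import Cfsg.Agent.ClosedTwo.Alt
import Cfsg.Agent.ClosedTwo.Row
import Cfsg.Agent.LieClassical.GUOrder
import Cfsg.Agent.LieClassical.HermBasic
import Cfsg.Agent.ClassicalGeometry.HermOrthonormal
import Cfsg.Agent.LieClassical.SUBasic
import Cfsg.Agent.S0277
set_option linter.all false

-- part: FooteOdd/Base
section
-- merged: Cfsg.Agent.FooteOdd.Ops
section

/-!
# Operators on `ι → K` (helper63, S1252, rows PSL and PSU in odd characteristic)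

* `dg d` diagonal operators, `pm σ` permutation operators, `J a c` block-diagonal operators on
  `(α × Fin 2) ⊕ β → K`, `bp π` permutation of the blocks; determinants and commutation rules.
-/

set_option autoImplicit false

namespace Cfsg.Agent.FooteOdd

open Equiv

variable {K : Type*} [Field K]

section ops

variable {ι : Type*}

/-- diagonal operators -/
def dg : (ι → Kˣ) →* ((ι → K) ≃ₗ[K] (ι → K)) where
  toFun d := LinearEquiv.piCongrRight fun i => LinearEquiv.smulOfUnit (d i)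
  map_one' := by
    ext v i
    simp [LinearEquiv.piCongrRight, LinearEquiv.smulOfUnit]
  map_mul' d e := by
    ext v i
    simp [LinearEquiv.piCongrRight, LinearEquiv.smulOfUnit, mul_assoc, Units.smul_def]

@[simp] theorem dg_apply (d : ι → Kˣ) (v : ι → K) (i : ι) : dg d v i = (d i : K) * v i := by
  simp [dg, LinearEquiv.piCongrRight, LinearEquiv.smulOfUnit, Units.smul_def]

/-- permutation operators -/
def pm : Perm ι →* ((ι → K) ≃ₗ[K] (ι → K)) where
  toFun σ := LinearEquiv.funCongrLeft K K σ⁻¹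
  map_one' := by
    ext v i
    simp [LinearEquiv.funCongrLeft_apply, LinearMap.funLeft_apply]
  map_mul' σ τ := by
    ext v i
    simp [LinearEquiv.funCongrLeft_apply, LinearMap.funLeft_apply]

@[simp] theorem pm_apply (σ : Perm ι) (v : ι → K) (i : ι) : pm σ v i = v (σ⁻¹ i) := by
  simp [pm, LinearEquiv.funCongrLeft_apply, LinearMap.funLeft_apply]

theorem pm_dg (σ : Perm ι) (d : ι → Kˣ) : pm (K := K) σ * dg d * (pm σ)⁻¹ = dg (d ∘ ⇑σ⁻¹) := by
  rw [mul_inv_eq_iff_eq_mul]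
  ext v i
  simp [LinearEquiv.mul_apply]

theorem dg_injective : Function.Injective (dg : (ι → Kˣ) →* ((ι → K) ≃ₗ[K] (ι → K))) := by
  intro d e h
  funext i
  have := congrFun (LinearEquiv.congr_fun h (fun _ => 1)) i
  exact Units.ext (by simpa using this)

variable [Fintype ι] [DecidableEq ι]

theorem det_dg (d : ι → Kˣ) : LinearEquiv.det (dg d) = ∏ i, d i := by
  ext
  rw [LinearEquiv.coe_det]
  have h : ((dg d : (ι → K) ≃ₗ[K] (ι → K)) : (ι → K) →ₗ[K] (ι → K)) = Matrix.toLin' (Matrix.diagonal fun i => (d i : K)) := by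
    ext v i
    simp [Matrix.mulVec_diagonal]
  rw [h, LinearMap.det_toLin', Matrix.det_diagonal, Units.coe_prod]

theorem det_pm (σ : Perm ι) : LinearEquiv.det (pm (K := K) σ) = Units.map (Int.castRingHom K).toMonoidHom (Perm.sign σ) := by
  ext
  rw [LinearEquiv.coe_det]
  have h : ((pm σ : (ι → K) ≃ₗ[K] (ι → K)) : (ι → K) →ₗ[K] (ι → K)) = Matrix.toLin' ((σ⁻¹ : Perm ι).toPEquiv.toMatrix) := by
    ext v i
    simp [Pi.single_apply]
  rw [h, LinearMap.det_toLin', Matrix.det_permutation]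
  simp

/-- scalars -/
def sc (c : Kˣ) : (ι → K) ≃ₗ[K] (ι → K) := dg fun _ => c

omit [Fintype ι] [DecidableEq ι] in
@[simp] theorem sc_apply (c : Kˣ) (v : ι → K) : sc c v = (c : K) • v := by
  funext i
  simp [sc]

omit [Fintype ι] [DecidableEq ι] in
theorem sc_comm (c : Kˣ) (g : (ι → K) ≃ₗ[K] (ι → K)) : sc c * g = g * sc c := by
  ext v i
  simp [LinearEquiv.mul_apply]

omit [Fintype ι] [DecidableEq ι] in
theorem sc_mul (c d : Kˣ) : sc (ι := ι) (c * d) = sc c * sc d := by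
  rw [sc, sc, sc, ← map_mul]
  rfl

/-- `-1` at the coordinates `i` and `j` -/
def tt (i j : ι) : (ι → K) ≃ₗ[K] (ι → K) := dg (Pi.mulSingle i (-1) * Pi.mulSingle j (-1))

end ops

section blocks

variable {α β : Type*}

/-- index type -/
abbrev Ix (α β : Type*) := (α × Fin 2) ⊕ β

/-- block-diagonal operators -/
def J : ((α → (Fin 2 → K) ≃ₗ[K] (Fin 2 → K)) × (β → Kˣ)) →* ((Ix α β → K) ≃ₗ[K] (Ix α β → K)) where
  toFun p :=
    { toFun := fun v => Sum.elim (fun x => p.1 x.1 (fun s => v (Sum.inl (x.1, s))) x.2) (fun j => (p.2 j : K) * v (Sum.inr j))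
      invFun := fun v => Sum.elim (fun x => (p.1 x.1).symm (fun s => v (Sum.inl (x.1, s))) x.2)
        (fun j => ((p.2 j)⁻¹ : Kˣ) * v (Sum.inr j))
      map_add' := by
        intro v w
        ext (x | j)
        · have : (fun s => (v + w) (Sum.inl (x.1, s))) = (fun s => v (Sum.inl (x.1, s))) + fun s => w (Sum.inl (x.1, s)) := rfl
          simp only [Sum.elim_inl, Pi.add_apply]
          have h := congrFun ((p.1 x.1).map_add (fun s => v (Sum.inl (x.1, s))) (fun s => w (Sum.inl (x.1, s)))) x.2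
          exact h
        · simp [mul_add]
      map_smul' := by
        intro c v
        ext (x | j)
        · have h := congrFun ((p.1 x.1).map_smul c (fun s => v (Sum.inl (x.1, s)))) x.2
          exact h
        · simp [mul_left_comm]
      left_inv := by
        intro v
        ext (x | j)
        · simp
        · simp
      right_inv := by
        intro v
        ext (x | j)
        · simp
        · simp }
  map_one' := by
    ext v (x | j)
    · simp
    · simp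
  map_mul' p q := by
    ext v (x | j)
    · simp [LinearEquiv.mul_apply]
    · simp [mul_assoc]

@[simp] theorem J_inl (p : (α → (Fin 2 → K) ≃ₗ[K] (Fin 2 → K)) × (β → Kˣ)) (v : Ix α β → K) (i : α) (s : Fin 2) :
    J p v (Sum.inl (i, s)) = p.1 i (fun s => v (Sum.inl (i, s))) s := rfl

@[simp] theorem J_inr (p : (α → (Fin 2 → K) ≃ₗ[K] (Fin 2 → K)) × (β → Kˣ)) (v : Ix α β → K) (j : β) :
    J p v (Sum.inr j) = (p.2 j : K) * v (Sum.inr j) := rfl

/-- the permutation of the index type given by a permutation of the blocks -/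
def bpσ : Perm α →* Perm (Ix α β) where
  toFun π := Perm.sumCongr (Equiv.prodCongrLeft fun _ => π) 1
  map_one' := by
    ext (⟨i, s⟩ | j) <;> simp
  map_mul' π ρ := by
    ext (⟨i, s⟩ | j) <;> simp

@[simp] theorem bpσ_inl (π : Perm α) (i : α) (s : Fin 2) : bpσ (β := β) π (Sum.inl (i, s)) = Sum.inl (π i, s) := rfl

@[simp] theorem bpσ_inr (π : Perm α) (j : β) : bpσ (β := β) π (Sum.inr j) = Sum.inr j := rfl

/-- permutation of the blocks -/
def bp : Perm α →* ((Ix α β → K) ≃ₗ[K] (Ix α β → K)) := pm.comp bpσ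

@[simp] theorem bp_inl (π : Perm α) (v : Ix α β → K) (i : α) (s : Fin 2) :
    bp π v (Sum.inl (i, s)) = v (Sum.inl (π⁻¹ i, s)) := by
  simp only [bp, MonoidHom.comp_apply, pm_apply, ← map_inv, bpσ_inl]

@[simp] theorem bp_inr (π : Perm α) (v : Ix α β → K) (j : β) :
    bp π v (Sum.inr j) = v (Sum.inr j) := by
  simp only [bp, MonoidHom.comp_apply, pm_apply, ← map_inv, bpσ_inr]

theorem bp_J (π : Perm α) (p : (α → (Fin 2 → K) ≃ₗ[K] (Fin 2 → K)) × (β → Kˣ)) :
    bp π * J p * (bp π)⁻¹ = J (p.1 ∘ ⇑π⁻¹, p.2) := by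
  rw [mul_inv_eq_iff_eq_mul]
  ext v (⟨i, s⟩ | j)
  · simp [LinearEquiv.mul_apply]
  · simp [LinearEquiv.mul_apply]

variable [Fintype α] [DecidableEq α] [Fintype β] [DecidableEq β]

theorem det_bp (π : Perm α) : LinearEquiv.det (bp (K := K) (β := β) π) = 1 := by
  rw [bp, MonoidHom.comp_apply, det_pm]
  have : Perm.sign (bpσ (β := β) π) = 1 := by
    change Perm.sign (Perm.sumCongr (Equiv.prodCongrLeft fun _ => π) 1) = 1
    rw [Perm.sign_sumCongr, Perm.sign_prodCongrLeft, Perm.sign_one, mul_one, Fin.prod_univ_two]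
    exact Int.units_mul_self _
  rw [this, map_one]

theorem det_J (p : (α → (Fin 2 → K) ≃ₗ[K] (Fin 2 → K)) × (β → Kˣ)) :
    LinearEquiv.det (J p) = (∏ i, LinearEquiv.det (p.1 i)) * ∏ j, p.2 j := by
  ext
  rw [LinearEquiv.coe_det]
  let e : (Ix α β → K) ≃ₗ[K] (α → Fin 2 → K) × (β → K) :=
    (LinearEquiv.sumArrowLequivProdArrow (α × Fin 2) β K K).trans
      ((LinearEquiv.curry K K α (Fin 2)).prodCongr (LinearEquiv.refl K _))
  have h1 : (e.toLinearMap ∘ₗ ((J p : (Ix α β → K) ≃ₗ[K] (Ix α β → K)) : (Ix α β → K) →ₗ[K] (Ix α β → K)) ∘ₗ e.symm.toLinearMap) =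
      LinearMap.prodMap (LinearMap.pi fun i => ((p.1 i : (Fin 2 → K) →ₗ[K] (Fin 2 → K))) ∘ₗ LinearMap.proj i)
        (LinearMap.pi fun j => ((LinearMap.lsmul K K (p.2 j : K))) ∘ₗ LinearMap.proj j) := by
    refine LinearMap.ext fun x => ?_
    refine Prod.ext ?_ ?_
    · funext i s
      rfl
    · funext j
      rfl
  rw [← LinearMap.det_conj _ e, h1, LinearMap.det_prodMap, LinearMap.det_pi, LinearMap.det_pi, Units.val_mul, Units.coe_prod,
    Units.coe_prod]
  refine congrArg₂ (· * ·) (Finset.prod_congr rfl fun j _ => (LinearEquiv.coe_det _).symm)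
    (Finset.prod_congr rfl fun j _ => ?_)
  rw [LinearMap.det_ring]
  simp

end blocks

end Cfsg.Agent.FooteOdd

end

-- merged: Cfsg.Agent.FooteOdd.Base
section

/-!
# Strongly closed 2-subgroups of linear groups (helper63, S1252)

`Sys K α β` : the data of a group `L` of linear maps of `(α × Fin 2) ⊕ β → K` (general linear or unitary), such that a Sylow
2-subgroup of `L` is made of block matrices.  `Sys.closed` : for a quotient `G` of `L ∩ SL` by scalars, the strongly closed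
subgroups of a Sylow 2-subgroup of `G` are trivial or the whole.
-/

set_option autoImplicit false
set_option linter.unusedVariables false
set_option linter.unusedSectionVars false

namespace Cfsg.Agent.FooteOdd

open Equiv Subgroup Cfsg
open Cfsg.Agent.ClosedTwo.Elem

/-- The data. -/
structure Sys (K : Type*) [Field K] (α β : Type*) [Fintype α] [DecidableEq α] [Fintype β] [DecidableEq β] where
  L : Subgroup ((Ix α β → K) ≃ₗ[K] (Ix α β → K))
  L2 : Subgroup ((Fin 2 → K) ≃ₗ[K] (Fin 2 → K))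
  D : Subgroup Kˣ
  neg : (-1 : Kˣ) ∈ D
  diag : ∀ d : Ix α β → Kˣ, (∀ i, d i ∈ D) → dg d ∈ L
  perm : ∀ σ : Perm (Ix α β), pm σ ∈ L
  blk : ∀ p : (α → (Fin 2 → K) ≃ₗ[K] (Fin 2 → K)) × (β → Kˣ), (∀ i, p.1 i ∈ L2) → (∀ j, p.2 j ∈ D) → J p ∈ L
  diag2 : ∀ d : Fin 2 → Kˣ, (∀ i, d i ∈ D) → dg d ∈ L2
  det_mem : ∀ g ∈ L, LinearEquiv.det g ∈ D
  det2_mem : ∀ g ∈ L2, LinearEquiv.det g ∈ D
  h1 : ∀ t ∈ L, t * t = 1 → ∃ k ∈ L, ∃ ε : Ix α β → Kˣ, (∀ i, ε i = 1 ∨ ε i = -1) ∧ k * t * k⁻¹ = dg ε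
  h2 : ∀ z ∈ L, LinearEquiv.det z = 1 → (∃ c : Kˣ, z * z = sc c) → (¬ ∃ c : Kˣ, z = sc c) →
    ∃ w ∈ L, LinearEquiv.det w = 1 ∧ ∃ k ∈ L, ∃ i j, i ≠ j ∧
      w * z * w⁻¹ = z * (k * tt i j * k⁻¹) ∧ z * (k * tt i j * k⁻¹) = (k * tt i j * k⁻¹) * z
  h3 : ∀ x ∈ L2, LinearEquiv.det x = 1 → (∃ k : ℕ, x ^ 2 ^ k = 1) →
    ∃ ρ ∈ L2, ρ * ρ = 1 ∧ LinearEquiv.det ρ = -1 ∧ ρ * x * ρ⁻¹ = x⁻¹
  h4 : (Nat.card L).factorization 2 = Fintype.card α * (Nat.card L2).factorization 2 +
    (Nat.card (Perm α)).factorization 2 + Fintype.card β * (Nat.card D).factorization 2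

variable {K : Type*} [Field K] {α β : Type*} [Fintype α] [DecidableEq α] [Fintype β] [DecidableEq β]

section general

variable {ι : Type*}

theorem tt_sq (i j : ι) [DecidableEq ι] : (tt i j : (ι → K) ≃ₗ[K] (ι → K)) * tt i j = 1 := by
  rw [tt, ← map_mul, mul_mul_mul_comm, ← Pi.mulSingle_mul, ← Pi.mulSingle_mul]
  simp

theorem exists_perm_two [DecidableEq ι] {i j i' j' : ι} (h : i ≠ j) (h' : i' ≠ j') : ∃ σ : Perm ι, σ i = i' ∧ σ j = j' := by
  refine ⟨swap (swap i i' j) j' * swap i i', ?_, ?_⟩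
  · rw [Perm.mul_apply, swap_apply_left, swap_apply_of_ne_of_ne]
    · intro h1
      exact h ((swap i i').injective (by rw [swap_apply_left]; exact h1))
    · exact h'
  · rw [Perm.mul_apply, swap_apply_left]

theorem mulSingle_comp_inv [DecidableEq ι] {M : Type*} [One M] (σ : Perm ι) (i : ι) (c : M) :
    (Pi.mulSingle i c : ι → M) ∘ ⇑σ⁻¹ = Pi.mulSingle (σ i) c := by
  funext x
  rw [Function.comp_apply, Pi.mulSingle_apply, Pi.mulSingle_apply]
  congr 1
  rw [eq_iff_iff]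
  constructor
  · intro h
    rw [← h]; simp
  · intro h
    rw [h]; simp

/-- generation of the diagonal operators of determinant one -/
theorem dg_mem_of [Fintype ι] [DecidableEq ι] [Nonempty ι] (T : Subgroup ((ι → K) ≃ₗ[K] (ι → K))) (C : Subgroup Kˣ)
    (h : ∀ i j, i ≠ j → ∀ c ∈ C, dg (Pi.mulSingle i c * Pi.mulSingle j c⁻¹) ∈ T)
    (δ : ι → Kˣ) (hδ : ∀ i, δ i ∈ C) (h1 : ∏ i, δ i = 1) : dg δ ∈ T := by
  obtain ⟨i0⟩ := ‹Nonempty ι›
  have key : δ = ∏ i, (Pi.mulSingle i (δ i) * Pi.mulSingle i0 (δ i)⁻¹) := by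
    have e1 : ∏ i, (Pi.mulSingle i0 (δ i)⁻¹ : ι → Kˣ) = Pi.mulSingle i0 (∏ i, (δ i)⁻¹) :=
      (map_prod (MonoidHom.mulSingle (fun _ : ι => Kˣ) i0) (fun i => (δ i)⁻¹) Finset.univ).symm
    rw [Finset.prod_mul_distrib, Finset.univ_prod_mulSingle δ, e1, Finset.prod_inv_distrib, h1]
    simp
  change δ ∈ T.comap dg
  rw [key]
  refine Subgroup.prod_mem _ fun i _ => ?_
  change dg _ ∈ T
  by_cases hi : i = i0
  · subst hi
    rw [← Pi.mulSingle_mul, mul_inv_cancel]
    simp [T.one_mem]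
  · exact h i i0 hi _ (hδ i)

end general

namespace Sys

variable (s : Sys K α β)

/-- the part of determinant one -/
noncomputable def Γ : Subgroup ((Ix α β → K) ≃ₗ[K] (Ix α β → K)) := s.L ⊓ (LinearEquiv.det : _ →* Kˣ).ker

theorem mem_Γ {g : (Ix α β → K) ≃ₗ[K] (Ix α β → K)} : g ∈ s.Γ ↔ g ∈ s.L ∧ LinearEquiv.det g = 1 := by
  rw [Γ, mem_inf, MonoidHom.mem_ker]

theorem conj_mem {k g : (Ix α β → K) ≃ₗ[K] (Ix α β → K)} (hk : k ∈ s.L) (hg : g ∈ s.Γ) : k * g * k⁻¹ ∈ s.Γ := by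
  rw [mem_Γ] at hg ⊢
  refine ⟨s.L.mul_mem (s.L.mul_mem hk hg.1) (s.L.inv_mem hk), ?_⟩
  rw [map_mul, map_mul, map_inv, hg.2]
  simp

variable {G : Type*} [Group G]

/-- the twisted homomorphism -/
noncomputable def tw (ψ : ↥s.Γ →* G) (k : ↥s.L) : ↥s.Γ →* G where
  toFun g := ψ ⟨k * g * k⁻¹, s.conj_mem k.2 g.2⟩
  map_one' := by
    rw [← map_one ψ]
    congr 1
    ext1
    simp
  map_mul' g h := by
    rw [← map_mul ψ]
    congr 1
    ext1
    simp

theorem tw_apply (ψ : ↥s.Γ →* G) (k : ↥s.L) (g : ↥s.Γ) : s.tw ψ k g = ψ ⟨k * g * k⁻¹, s.conj_mem k.2 g.2⟩ := rfl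

theorem tw_one (ψ : ↥s.Γ →* G) (g : ↥s.Γ) : s.tw ψ 1 g = ψ g := by
  rw [tw_apply]
  exact congrArg ψ (Subtype.ext (by simp))

/-- all the `L`-conjugates of `g` map into the conjugates of elements of `A` -/
def CC (ψ : ↥s.Γ →* G) (A : Subgroup G) (g : (Ix α β → K) ≃ₗ[K] (Ix α β → K)) : Prop :=
  ∃ hg : g ∈ s.Γ, ∀ k : ↥s.L, Cl A (s.tw ψ k ⟨g, hg⟩)

variable {s} {ψ : ↥s.Γ →* G} {A : Subgroup G}

theorem CC.one : s.CC ψ A 1 := by
  refine ⟨s.Γ.one_mem, fun k => ?_⟩
  have : (⟨1, s.Γ.one_mem⟩ : ↥s.Γ) = 1 := rfl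
  rw [this, map_one]
  exact cl_one

theorem CC.inv {g : (Ix α β → K) ≃ₗ[K] (Ix α β → K)} (h : s.CC ψ A g) : s.CC ψ A g⁻¹ := by
  obtain ⟨hg, h⟩ := h
  refine ⟨s.Γ.inv_mem hg, fun k => ?_⟩
  have : (⟨g⁻¹, s.Γ.inv_mem hg⟩ : ↥s.Γ) = (⟨g, hg⟩ : ↥s.Γ)⁻¹ := rfl
  rw [this, map_inv]
  exact (h k).inv

theorem CC.conj {g k : (Ix α β → K) ≃ₗ[K] (Ix α β → K)} (h : s.CC ψ A g) (hk : k ∈ s.L) : s.CC ψ A (k * g * k⁻¹) := by
  obtain ⟨hg, h⟩ := h
  refine ⟨s.conj_mem hk hg, fun u => ?_⟩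
  have := h (u * ⟨k, hk⟩)
  rw [tw_apply] at this ⊢
  convert this using 2
  ext1
  simp [mul_assoc]

theorem CC.of_conj {g k : (Ix α β → K) ≃ₗ[K] (Ix α β → K)} (hk : k ∈ s.L) (h : s.CC ψ A (k * g * k⁻¹)) : s.CC ψ A g := by
  have := h.conj (s.L.inv_mem hk)
  simpa [mul_assoc] using this

variable [Finite G] {S : Sylow 2 G}

theorem CC.mul (hA : IsStronglyClosed A (S : Subgroup G)) {P : Subgroup ((Ix α β → K) ≃ₗ[K] (Ix α β → K))} (hP : P ≤ s.Γ)
    (hP2 : IsPGroup 2 ↥P) {g h : (Ix α β → K) ≃ₗ[K] (Ix α β → K)} (hgP : g ∈ P) (hhP : h ∈ P) (hg : s.CC ψ A g)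
    (hh : s.CC ψ A h) : s.CC ψ A (g * h) := by
  have hp : Fact (Nat.Prime 2) := ⟨Nat.prime_two⟩
  obtain ⟨hg1, hg⟩ := hg
  obtain ⟨hh1, hh⟩ := hh
  refine ⟨s.Γ.mul_mem hg1 hh1, fun k => ?_⟩
  have e : (⟨g * h, s.Γ.mul_mem hg1 hh1⟩ : ↥s.Γ) = (⟨g, hg1⟩ : ↥s.Γ) * ⟨h, hh1⟩ := rfl
  rw [e, map_mul]
  have hP' : IsPGroup 2 ↥(P.subgroupOf s.Γ) := hP2.comap_of_injective s.Γ.subtype s.Γ.subtype_injective
  exact Cl.mul hA (hP'.map (s.tw ψ k)) ⟨_, hgP, rfl⟩ ⟨_, hhP, rfl⟩ (hg k) (hh k)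

theorem CC.of_inverted (hA : IsStronglyClosed A (S : Subgroup G)) {t x : (Ix α β → K) ≃ₗ[K] (Ix α β → K)} (ht : t * t = 1)
    (hx : t * x * t⁻¹ = x⁻¹) {n : ℕ} (hn : x ^ 2 ^ n = 1) (h1 : s.CC ψ A t) (h2 : s.CC ψ A (t * x)) : s.CC ψ A x := by
  obtain ⟨ht1, h1⟩ := h1
  obtain ⟨htx, h2⟩ := h2
  have hxm : x ∈ s.Γ := by
    have := s.Γ.mul_mem (s.Γ.inv_mem ht1) htx
    simpa using this
  refine ⟨hxm, fun k => ?_⟩
  refine Cl.of_inverted hA (t := s.tw ψ k ⟨t, ht1⟩) (k := n) ?_ ?_ ?_ (h1 k) ?_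
  · rw [← map_mul]
    have : (⟨t, ht1⟩ : ↥s.Γ) * ⟨t, ht1⟩ = 1 := Subtype.ext ht
    rw [this, map_one]
  · rw [← map_inv, ← map_inv, ← map_mul, ← map_mul]
    congr 1
    exact Subtype.ext hx
  · rw [← map_pow]
    have : (⟨x, hxm⟩ : ↥s.Γ) ^ 2 ^ n = 1 := Subtype.ext hn
    rw [this, map_one]
  · rw [← map_mul]
    exact h2 k

variable (s ψ) in
/-- the elements `g` of a 2-group with `CC g` -/
def ccSub (hA : IsStronglyClosed A (S : Subgroup G)) (P : Subgroup ((Ix α β → K) ≃ₗ[K] (Ix α β → K))) (hP : P ≤ s.Γ)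
    (hP2 : IsPGroup 2 ↥P) : Subgroup ((Ix α β → K) ≃ₗ[K] (Ix α β → K)) where
  carrier := {g | g ∈ P ∧ s.CC ψ A g}
  mul_mem' {a b} ha hb := ⟨P.mul_mem ha.1 hb.1, CC.mul hA hP hP2 ha.1 hb.1 ha.2 hb.2⟩
  one_mem' := ⟨P.one_mem, CC.one⟩
  inv_mem' {a} ha := ⟨P.inv_mem ha.1, ha.2.inv⟩

theorem mem_ccSub {hA : IsStronglyClosed A (S : Subgroup G)} {P : Subgroup ((Ix α β → K) ≃ₗ[K] (Ix α β → K))} {hP : P ≤ s.Γ}
    {hP2 : IsPGroup 2 ↥P} {g : (Ix α β → K) ≃ₗ[K] (Ix α β → K)} : g ∈ s.ccSub ψ hA P hP hP2 ↔ g ∈ P ∧ s.CC ψ A g := Iff.rfl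

/-- one conjugate of a diagonal operator is enough -/
theorem CC.of_cl {ε : Ix α β → Kˣ} (i0 : Ix α β) {k0 : (Ix α β → K) ≃ₗ[K] (Ix α β → K)} (hk0 : k0 ∈ s.L) (hε : dg ε ∈ s.Γ)
    (h : Cl A (ψ ⟨k0 * dg ε * k0⁻¹, s.conj_mem hk0 hε⟩)) : s.CC ψ A (dg ε) := by
  refine ⟨hε, fun k => ?_⟩
  obtain ⟨k, hk⟩ := k
  rw [tw_apply]
  set c : Kˣ := (LinearEquiv.det k)⁻¹ * LinearEquiv.det k0 with hc
  have hcD : c ∈ s.D := s.D.mul_mem (s.D.inv_mem (s.det_mem k hk)) (s.det_mem k0 hk0)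
  set d : (Ix α β → K) ≃ₗ[K] (Ix α β → K) := dg (Pi.mulSingle i0 c) with hd
  have hdL : d ∈ s.L := s.diag _ fun i => by
    by_cases hi : i = i0
    · subst hi
      rw [Pi.mulSingle_eq_same]
      exact hcD
    · simpa [Pi.mulSingle_eq_of_ne hi] using s.D.one_mem
  have hdet : LinearEquiv.det d = c := by
    rw [hd, det_dg]
    simp [Finset.prod_pi_mulSingle']
  have hcomm : d * dg ε = dg ε * d := by
    rw [hd, ← map_mul, ← map_mul, mul_comm]
  set γ : (Ix α β → K) ≃ₗ[K] (Ix α β → K) := k * d * k0⁻¹ with hγ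
  have hγΓ : γ ∈ s.Γ := by
    rw [mem_Γ]
    refine ⟨s.L.mul_mem (s.L.mul_mem hk hdL) (s.L.inv_mem hk0), ?_⟩
    rw [hγ, map_mul, map_mul, map_inv, hdet, hc, mul_inv_cancel_left, mul_inv_cancel]
  have := h.conj (ψ ⟨γ, hγΓ⟩)
  rw [← map_inv, ← map_mul, ← map_mul] at this
  convert this using 2
  ext1
  change k * dg ε * k⁻¹ = γ * (k0 * dg ε * k0⁻¹) * γ⁻¹
  have e1 : γ * (k0 * dg ε * k0⁻¹) * γ⁻¹ = k * (d * dg ε * d⁻¹) * k⁻¹ := by
    rw [hγ]; group
  rw [e1, hcomm, mul_inv_cancel_right]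

theorem tt_mem (s : Sys K α β) {i j : Ix α β} : (tt i j : (Ix α β → K) ≃ₗ[K] (Ix α β → K)) ∈ s.Γ := by
  rw [mem_Γ]
  constructor
  · refine s.diag _ fun k => ?_
    refine s.D.mul_mem ?_ ?_
    · rw [Pi.mulSingle_apply]; split_ifs
      · exact s.neg
      · exact s.D.one_mem
    · rw [Pi.mulSingle_apply]; split_ifs
      · exact s.neg
      · exact s.D.one_mem
  · rw [tt, map_mul, map_mul, det_dg, det_dg]
    simp [Finset.prod_pi_mulSingle']

theorem CC.tt_of {i j i' j' : Ix α β} (h : i ≠ j) (h' : i' ≠ j') (hc : s.CC ψ A (tt i j)) : s.CC ψ A (tt i' j') := by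
  obtain ⟨σ, rfl, rfl⟩ := exists_perm_two h h'
  have := hc.conj (s.perm σ)
  rw [tt, pm_dg] at this
  have e : (Pi.mulSingle i (-1) * Pi.mulSingle j (-1) : Ix α β → Kˣ) ∘ ⇑σ⁻¹ = Pi.mulSingle (σ i) (-1) * Pi.mulSingle (σ j) (-1) := by
    rw [← mulSingle_comp_inv, ← mulSingle_comp_inv]
    rfl
  rw [e] at this
  exact this

/-- **Step 1**: the operators `tt i j`. -/
theorem cc_tt (hψ : Function.Surjective ψ) (hker : ∀ g : ↥s.Γ, ψ g = 1 ↔ ∃ c : Kˣ, (g : (Ix α β → K) ≃ₗ[K] (Ix α β → K)) = sc c)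
    (hA : IsStronglyClosed A (S : Subgroup G)) (hne : A ≠ ⊥) {i j : Ix α β} (hij : i ≠ j) : s.CC ψ A (tt i j) := by
  obtain ⟨z, hzA, hz2, hz1⟩ := exists_involution hA hne
  obtain ⟨⟨g, hg⟩, rfl⟩ := hψ z
  have hsq : ∃ c : Kˣ, g * g = sc c := by
    have := (hker (⟨g, hg⟩ * ⟨g, hg⟩)).1 (by rw [map_mul]; exact hz2)
    exact this
  have hns : ¬ ∃ c : Kˣ, g = sc c := fun h => hz1 ((hker ⟨g, hg⟩).2 h)
  obtain ⟨w, hwL, hwd, k, hk, i', j', hij', h1, h2⟩ := s.h2 g (s.mem_Γ.1 hg).1 (s.mem_Γ.1 hg).2 hsq hns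
  have hw : w ∈ s.Γ := s.mem_Γ.2 ⟨hwL, hwd⟩
  have hτ : k * tt i' j' * k⁻¹ ∈ s.Γ := s.conj_mem hk s.tt_mem
  have hcl : Cl A (ψ ⟨k * tt i' j' * k⁻¹, hτ⟩) := by
    have hclg : Cl A (ψ ⟨g, hg⟩) := cl_of_mem hzA
    have hclw := hclg.conj (ψ ⟨w, hw⟩)
    rw [← map_inv, ← map_mul, ← map_mul] at hclw
    have e1 : (⟨w, hw⟩ * ⟨g, hg⟩ * (⟨w, hw⟩ : ↥s.Γ)⁻¹ : ↥s.Γ) = ⟨g, hg⟩ * ⟨k * tt i' j' * k⁻¹, hτ⟩ := Subtype.ext h1
    rw [e1, map_mul] at hclw
    set a := ψ ⟨g, hg⟩ with ha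
    set b := ψ ⟨k * tt i' j' * k⁻¹, hτ⟩ with hb
    have hbb : b * b = 1 := by
      rw [hb, ← map_mul]
      have : (⟨k * tt i' j' * k⁻¹, hτ⟩ : ↥s.Γ) * ⟨k * tt i' j' * k⁻¹, hτ⟩ = 1 := by
        apply Subtype.ext
        change (k * tt i' j' * k⁻¹) * (k * tt i' j' * k⁻¹) = 1
        have : (k * tt i' j' * k⁻¹) * (k * tt i' j' * k⁻¹) = k * (tt i' j' * tt i' j') * k⁻¹ := by group
        rw [this, tt_sq, mul_one, mul_inv_cancel]
      rw [this, map_one]
    have hab : a * b = b * a := by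
      rw [ha, hb, ← map_mul, ← map_mul]
      congr 1
      exact Subtype.ext h2
    have hmul : a * (a * b) = b := by rw [← mul_assoc, hz2, one_mul]
    have := Cl.mul_invol hA (k := 1) hz2 (show (a * b) * (a * b) = 1 by
      rw [mul_assoc, ← mul_assoc b, ← hab, mul_assoc a b b, hbb, mul_one, hz2]) (by rw [hmul, pow_one, pow_two, hbb]) hclg hclw
    rwa [hmul] at this
  have := CC.of_cl (s := s) (ψ := ψ) i' hk s.tt_mem hcl
  exact CC.tt_of hij' hij this

end Sys

end Cfsg.Agent.FooteOdd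

end
end

-- part: FooteOdd/PSU
section
-- merged: Cfsg.Agent.FooteOdd.Conj
section

/-!
# Tools for the instances of `Sys` (helper63, S1252)
-/

set_option autoImplicit false
set_option linter.unusedVariables false
set_option linter.unusedSectionVars false

namespace Cfsg.Agent.FooteOdd

open Equiv Subgroup Cfsg

variable {K : Type*} [Field K]

section

variable {ι : Type*} [Fintype ι] [DecidableEq ι]

theorem ext_single {f g : (ι → K) ≃ₗ[K] (ι → K)} (h : ∀ i, f (Pi.single i 1) = g (Pi.single i 1)) : f = g := by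
  apply LinearEquiv.toLinearMap_injective
  refine LinearMap.pi_ext' fun i => LinearMap.ext_ring ?_
  exact h i

theorem conj_eq_dg {k t : (ι → K) ≃ₗ[K] (ι → K)} {ε : ι → Kˣ} (h : ∀ i, t (k⁻¹ (Pi.single i 1)) = (ε i : K) • k⁻¹ (Pi.single i 1)) :
    k * t * k⁻¹ = dg ε := by
  refine ext_single fun i => ?_
  rw [LinearEquiv.mul_apply, LinearEquiv.mul_apply, h, map_smul]
  have : k (k⁻¹ (Pi.single i (1 : K))) = Pi.single i 1 := by
    rw [← LinearEquiv.mul_apply, mul_inv_cancel]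
    rfl
  rw [this]
  funext j
  rw [dg_apply, Pi.smul_apply, smul_eq_mul, Pi.single_apply]
  split_ifs with hj
  · rw [hj]
  · simp

/-- conjugation by an isomorphism -/
def cjE {V V' : Type*} [AddCommGroup V] [Module K V] [AddCommGroup V'] [Module K V'] (e : V ≃ₗ[K] V') :
    (V ≃ₗ[K] V) ≃* (V' ≃ₗ[K] V') where
  toFun g := (e.symm.trans g).trans e
  invFun g := (e.trans g).trans e.symm
  left_inv g := by ext; simp
  right_inv g := by ext; simp
  map_mul' g h := by ext; simp [LinearEquiv.mul_apply]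

theorem cjE_apply {V V' : Type*} [AddCommGroup V] [Module K V] [AddCommGroup V'] [Module K V'] (e : V ≃ₗ[K] V')
    (g : V ≃ₗ[K] V) (v : V') : cjE e g v = e (g (e.symm v)) := rfl

end

section block

variable {α β : Type*} [DecidableEq α]

/-- the vector with the block `x` at `a` -/
def emb (β : Type*) (a : α) (x : Fin 2 → K) : Ix α β → K := Sum.elim (fun p => if p.1 = a then x p.2 else 0) fun _ => 0

theorem emb_same (a : α) (x : Fin 2 → K) (k : Fin 2) : emb β a x (Sum.inl (a, k)) = x k := by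
  simp [emb]

theorem emb_ne {a i : α} (h : i ≠ a) (x : Fin 2 → K) (k : Fin 2) : emb β a x (Sum.inl (i, k)) = 0 := by
  simp [emb, h]

theorem emb_inr (a : α) (x : Fin 2 → K) (j : β) : emb β a x (Sum.inr j) = 0 := rfl

theorem J_emb (a : α) (y : (Fin 2 → K) ≃ₗ[K] (Fin 2 → K)) (x : Fin 2 → K) :
    J (Pi.mulSingle a y, (1 : β → Kˣ)) (emb β a x) = emb β a (y x) := by
  funext o
  rcases o with (⟨i, k⟩ | j)
  · rw [J_inl]
    change ((Pi.mulSingle a y : α → (Fin 2 → K) ≃ₗ[K] (Fin 2 → K)) i) _ k = _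
    by_cases hi : i = a
    · subst hi
      rw [Pi.mulSingle_eq_same, emb_same]
      have : (fun s => emb β i x (Sum.inl (i, s))) = x := funext fun s => emb_same i x s
      rw [this]
    · rw [Pi.mulSingle_eq_of_ne hi, emb_ne hi]
      exact emb_ne (β := β) hi x k
  · rw [J_inr, emb_inr, emb_inr, mul_zero]

theorem J_out (a : α) (y : (Fin 2 → K) ≃ₗ[K] (Fin 2 → K)) {u : Ix α β → K} (hu : ∀ k, u (Sum.inl (a, k)) = 0) :
    J (Pi.mulSingle a y, (1 : β → Kˣ)) u = u := by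
  funext o
  rcases o with (⟨i, k⟩ | j)
  · rw [J_inl]
    change ((Pi.mulSingle a y : α → (Fin 2 → K) ≃ₗ[K] (Fin 2 → K)) i) _ k = _
    by_cases hi : i = a
    · subst hi
      rw [Pi.mulSingle_eq_same]
      have : (fun s => u (Sum.inl (i, s))) = 0 := funext hu
      rw [this, map_zero, hu]
      rfl
    · rw [Pi.mulSingle_eq_of_ne hi]
      rfl
  · rw [J_inr]
    simp

variable [DecidableEq β]

theorem tt_emb (a : α) (x : Fin 2 → K) : tt (Sum.inl (a, 0)) (Sum.inl (a, 1)) (emb β a x) = -emb β a x := by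
  funext o
  rw [tt, dg_apply]
  rcases o with (⟨i, k⟩ | j)
  · by_cases hi : i = a
    · subst hi
      fin_cases k <;> simp
    · simp [emb_ne hi]
  · simp [emb_inr]

theorem tt_out (a : α) {u : Ix α β → K} (hu : ∀ k, u (Sum.inl (a, k)) = 0) :
    tt (Sum.inl (a, 0)) (Sum.inl (a, 1)) u = u := by
  funext o
  rw [tt, dg_apply]
  rcases o with (⟨i, k⟩ | j)
  · by_cases hi : i = a
    · subst hi
      rw [hu, mul_zero]
    · simp [hi]
  · simp

/-- **The block criterion.** -/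
theorem block_conj (two : (2 : K) ≠ 0) {z : (Ix α β → K) ≃ₗ[K] (Ix α β → K)} {a : α} {c : Kˣ} (hz2 : z * z = sc c)
    (hz : z (emb β a (Pi.single 0 1)) = emb β a (Pi.single 1 1))
    (hcomm : z * tt (Sum.inl (a, 0)) (Sum.inl (a, 1)) = tt (Sum.inl (a, 0)) (Sum.inl (a, 1)) * z)
    {y : (Fin 2 → K) ≃ₗ[K] (Fin 2 → K)} (hy : ∀ x : Fin 2 → K, y ![(c : K) * x 1, x 0] = -![(c : K) * y x 1, y x 0]) :
    J (Pi.mulSingle a y, (1 : β → Kˣ)) * z * (J (Pi.mulSingle a y, (1 : β → Kˣ)))⁻¹ =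
      z * tt (Sum.inl (a, 0)) (Sum.inl (a, 1)) := by
  have hemb : ∀ x : Fin 2 → K, emb β a x = x 0 • emb β a (Pi.single 0 1) + x 1 • emb β a (Pi.single 1 1) := by
    intro x
    funext o
    rcases o with (⟨i, k⟩ | j)
    · by_cases hi : i = a
      · subst hi
        simp only [Pi.add_apply, Pi.smul_apply, emb_same]
        fin_cases k <;> simp
      · simp [emb_ne hi]
    · simp [emb_inr]
  have hz1 : z (emb β a (Pi.single 1 1)) = (c : K) • emb β a (Pi.single 0 1) := by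
    rw [← hz, ← LinearEquiv.mul_apply, hz2, sc_apply]
  have hzemb : ∀ x : Fin 2 → K, z (emb β a x) = emb β a ![(c : K) * x 1, x 0] := by
    intro x
    rw [hemb x, map_add, map_smul, map_smul, hz, hz1, hemb ![(c : K) * x 1, x 0]]
    simp only [Matrix.cons_val_zero, Matrix.cons_val_one, smul_smul]
    rw [add_comm, mul_comm]
  have hout : ∀ u : Ix α β → K, (∀ k, u (Sum.inl (a, k)) = 0) → ∀ k, z u (Sum.inl (a, k)) = 0 := by
    intro u hu k
    have h1 : z u = tt (Sum.inl (a, 0)) (Sum.inl (a, 1)) (z u) := by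
      conv_lhs => rw [← tt_out a hu, ← LinearEquiv.mul_apply, hcomm, LinearEquiv.mul_apply]
    have h2 := congrFun h1 (Sum.inl (a, k))
    rw [tt, dg_apply] at h2
    have h3 : (((Pi.mulSingle (Sum.inl (a, 0)) (-1) * Pi.mulSingle (Sum.inl (a, 1)) (-1) : Ix α β → Kˣ) (Sum.inl (a, k)) : Kˣ) : K) = -1 := by
      fin_cases k <;> simp
    rw [h3] at h2
    have h4 : (2 : K) * z u (Sum.inl (a, k)) = 0 := by linear_combination h2
    exact (mul_eq_zero.1 h4).resolve_left two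
  rw [mul_inv_eq_iff_eq_mul]
  apply LinearEquiv.ext
  intro v
  set x : Fin 2 → K := fun k => v (Sum.inl (a, k)) with hx
  set u : Ix α β → K := v - emb β a x with hu
  have hu0 : ∀ k, u (Sum.inl (a, k)) = 0 := by
    intro k
    rw [hu, Pi.sub_apply, emb_same]
    simp [hx]
  have hv : v = emb β a x + u := by rw [hu]; abel
  rw [hv]
  simp only [map_add]
  congr 1
  · rw [LinearEquiv.mul_apply, LinearEquiv.mul_apply, LinearEquiv.mul_apply, hzemb, J_emb, J_emb, hy, tt_emb, map_neg, hzemb]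
    have : ∀ w : Fin 2 → K, emb β a (-w) = -emb β a w := by
      intro w
      funext o
      rcases o with (⟨i, k⟩ | j)
      · by_cases hi : i = a
        · subst hi
          simp [emb_same]
        · simp [emb_ne hi]
      · simp [emb_inr]
    rw [this]
  · rw [LinearEquiv.mul_apply, LinearEquiv.mul_apply, LinearEquiv.mul_apply, J_out a y hu0, tt_out a hu0,
      J_out a y (hout u hu0)]

variable [Fintype α] [Fintype β]

theorem det_block (a : α) (y : (Fin 2 → K) ≃ₗ[K] (Fin 2 → K)) :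
    LinearEquiv.det (J (Pi.mulSingle a y, (1 : β → Kˣ))) = LinearEquiv.det y := by
  rw [det_J]
  change (∏ j, LinearEquiv.det ((Pi.mulSingle a y : α → _) j)) * ∏ j : β, (1 : Kˣ) = _
  rw [Finset.prod_const_one, mul_one, Finset.prod_eq_single a]
  · rw [Pi.mulSingle_eq_same]
  · intro j _ hj
    rw [Pi.mulSingle_eq_of_ne hj, map_one]
  · intro h
    exact absurd (Finset.mem_univ _) h

end block

/-- a matrix of determinant one -/
def m2m (a b c d : K) (h : a * d - b * c = 1) : Matrix.SpecialLinearGroup (Fin 2) K :=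
  ⟨!![a, b; c, d], by rw [Matrix.det_fin_two_of]; exact h⟩

/-- a linear automorphism of `K ^ 2` of determinant one -/
noncomputable def m2 (a b c d : K) (h : a * d - b * c = 1) : (Fin 2 → K) ≃ₗ[K] (Fin 2 → K) :=
  Matrix.SpecialLinearGroup.toLin' (m2m a b c d h)

theorem m2_apply (a b c d : K) (h : a * d - b * c = 1) (x : Fin 2 → K) : m2 a b c d h x = ![a * x 0 + b * x 1, c * x 0 + d * x 1] := by
  rw [m2, Matrix.SpecialLinearGroup.toLin'_apply, Matrix.toLin'_apply]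
  funext i
  fin_cases i <;> simp [m2m, Matrix.mulVec, dotProduct, Fin.sum_univ_two]

theorem det_m2 (a b c d : K) (h : a * d - b * c = 1) : LinearEquiv.det (m2 a b c d h) = 1 := by
  ext
  rw [LinearEquiv.coe_det, Units.val_one, m2, Matrix.SpecialLinearGroup.toLin'_to_linearMap, LinearMap.det_toLin']
  exact (m2m a b c d h).2

end Cfsg.Agent.FooteOdd

end

-- merged: Cfsg.Agent.FooteOdd.Num
section

/-!
# The 2-part of the orders of the general linear and unitary groups (helper63, S1252)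
-/

set_option autoImplicit false

namespace Cfsg.Agent.FooteOdd.Num

open Finset

/-- multiplicity of `2` -/
abbrev v2 (n : ℕ) : ℕ := n.factorization 2

theorem v2_mul {a b : ℕ} (ha : a ≠ 0) (hb : b ≠ 0) : v2 (a * b) = v2 a + v2 b := by
  simp only [v2, Nat.factorization_mul ha hb, Finsupp.add_apply]

theorem v2_odd {a : ℕ} (ha : Odd a) : v2 a = 0 :=
  Nat.factorization_eq_zero_of_not_dvd (by rw [← even_iff_two_dvd, Nat.not_even_iff_odd]; exact ha)

theorem v2_eq_padic (a : ℕ) : v2 a = padicValNat 2 a := Nat.factorization_def a Nat.prime_two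

theorem v2_two : v2 2 = 1 := Nat.Prime.factorization_self Nat.prime_two

/-- `2`-part of `q ^ i - 1`, `i` odd -/
theorem v2_pow_sub_one_odd {q i : ℕ} (hq : Odd q) (hq1 : 1 < q) (hi : Odd i) : v2 (q ^ i - 1) = v2 (q - 1) := by
  have h1 : q ^ i - 1 = (∑ j ∈ range i, q ^ j) * (q - 1) := by
    have := geom_sum_mul_add (q - 1) i
    rw [Nat.sub_add_cancel hq1.le] at this
    omega
  have h2 : Odd (∑ j ∈ range i, q ^ j) := by
    rw [Finset.odd_sum_iff_odd_card_odd, Finset.filter_true_of_mem, card_range]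
    · exact hi
    · intro j _
      exact hq.pow
  rw [h1, v2_mul, v2_odd h2, zero_add]
  · intro h
    rw [h] at h2
    exact absurd h2 (by decide)
  · omega

/-- `2`-part of `q ^ (2 k) - 1` -/
theorem v2_pow_sub_one_even {q k : ℕ} (hq : Odd q) (hq1 : 1 < q) (hk : k ≠ 0) :
    v2 (q ^ (2 * k) - 1) = v2 (q ^ 2 - 1) + v2 k := by
  have h0 : q ^ 2 - 1 = (q + 1) * (q - 1) := by simpa using Nat.sq_sub_sq q 1
  have h1 := padicValNat.pow_two_sub_pow (x := q) (y := 1) (n := 2 * k) hq1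
    (by obtain ⟨m, rfl⟩ := hq; exact ⟨m, by omega⟩) (by rw [← even_iff_two_dvd, Nat.not_even_iff_odd]; exact hq) (by omega) (even_two_mul k)
  rw [one_pow] at h1
  rw [h0, v2_mul (by omega) (by omega)]
  simp only [v2_eq_padic]
  rw [padicValNat.mul (by norm_num) hk] at h1
  have : padicValNat 2 2 = 1 := padicValNat.self (by norm_num)
  omega

/-- `2`-part of `q ^ i + 1`, `i` odd -/
theorem v2_pow_add_one_odd {q i : ℕ} (hq : Odd q) (hq1 : 1 < q) (hi : Odd i) : v2 (q ^ i + 1) = v2 (q + 1) := by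
  have hi0 : i ≠ 0 := by rintro rfl; exact absurd hi (by decide)
  have h1 : q ^ (2 * i) - 1 = (q ^ i + 1) * (q ^ i - 1) := by
    rw [mul_comm 2 i, pow_mul]; simpa using Nat.sq_sub_sq (q ^ i) 1
  have h0 : q ^ 2 - 1 = (q + 1) * (q - 1) := by simpa using Nat.sq_sub_sq q 1
  have h2 := v2_pow_sub_one_even hq hq1 hi0
  have h3 : 1 < q ^ i := Nat.one_lt_pow hi0 hq1
  rw [h1, h0, v2_mul (by omega) (by omega), v2_mul (by omega) (by omega), v2_pow_sub_one_odd hq hq1 hi, v2_odd hi] at h2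
  omega

theorem sum_w {w : ℕ → ℕ} {c1 c2 : ℕ} (h1 : ∀ k, w (2 * k + 1) = c1) (h2 : ∀ k, w (2 * (k + 1)) = c2 + v2 (k + 1)) (m : ℕ) :
    ∑ i ∈ range (2 * m), w (i + 1) = m * (c1 + c2) + v2 m.factorial := by
  induction m with
  | zero => simp [v2]
  | succ m ih =>
    rw [show 2 * (m + 1) = 2 * m + 1 + 1 by ring, sum_range_succ, sum_range_succ, ih, h1,
      show 2 * m + 1 + 1 = 2 * (m + 1) by ring, h2, Nat.factorial_succ, v2_mul (by omega) (Nat.factorial_ne_zero m)]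
    ring

theorem sum_w' {w : ℕ → ℕ} {c1 c2 : ℕ} (h1 : ∀ k, w (2 * k + 1) = c1) (h2 : ∀ k, w (2 * (k + 1)) = c2 + v2 (k + 1)) (m r : ℕ)
    (hr : r ≤ 1) : ∑ i ∈ range (2 * m + r), w (i + 1) = m * (c1 + c2) + v2 m.factorial + r * c1 := by
  interval_cases r
  · rw [add_zero, sum_w h1 h2]
    ring
  · rw [sum_range_succ, sum_w h1 h2, h1]
    ring

/-- `2`-part of a product -/
theorem v2_prod {f : ℕ → ℕ} (n : ℕ) (hf : ∀ i < n, f i ≠ 0) : v2 (∏ i ∈ range n, f i) = ∑ i ∈ range n, v2 (f i) := by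
  induction n with
  | zero => simp [v2]
  | succ n ih =>
    rw [prod_range_succ, sum_range_succ, v2_mul (prod_ne_zero_iff.2 fun i hi => hf i (by have := mem_range.1 hi; omega))
      (hf n (by omega)), ih fun i hi => hf i (by omega)]

/-- the general linear group -/
theorem v2_gl {q : ℕ} (hq : Odd q) (hq1 : 1 < q) (m r : ℕ) (hr : r ≤ 1) :
    v2 (∏ i : Fin (2 * m + r), (q ^ (2 * m + r) - q ^ (i : ℕ))) =
      m * (v2 (q - 1) + v2 (q ^ 2 - 1)) + v2 m.factorial + r * v2 (q - 1) := by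
  set n := 2 * m + r with hn
  rw [Fin.prod_univ_eq_prod_range (fun i => q ^ n - q ^ i) n, v2_prod]
  · have h1 : ∀ i ∈ range n, v2 (q ^ n - q ^ i) = v2 (q ^ (n - 1 - i + 1) - 1) := by
      intro i hi
      have hi' := mem_range.1 hi
      have e : q ^ n - q ^ i = q ^ i * (q ^ (n - 1 - i + 1) - 1) := by
        rw [Nat.mul_sub, mul_one, ← pow_add]
        congr 2
        omega
      rw [e, v2_mul, v2_odd hq.pow, zero_add]
      · positivity
      · have : 1 < q ^ (n - 1 - i + 1) := Nat.one_lt_pow (by omega) hq1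
        omega
    rw [sum_congr rfl h1, sum_range_reflect (fun i => v2 (q ^ (i + 1) - 1)) n, hn]
    exact sum_w' (w := fun i => v2 (q ^ i - 1)) (fun k => v2_pow_sub_one_odd hq hq1 ⟨k, rfl⟩)
      (fun k => v2_pow_sub_one_even hq hq1 (by omega)) m r hr
  · intro i hi
    have : q ^ i < q ^ n := Nat.pow_lt_pow_right hq1 hi
    omega

/-- the general unitary group -/
theorem v2_gu {q : ℕ} (hq : Odd q) (hq1 : 1 < q) (m r e : ℕ) (hr : r ≤ 1) :
    v2 (q ^ e * ∏ i ∈ range (2 * m + r), (if Even i then q ^ (i + 1) + 1 else q ^ (i + 1) - 1)) =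
      m * (v2 (q + 1) + v2 (q ^ 2 - 1)) + v2 m.factorial + r * v2 (q + 1) := by
  have hne : ∀ i, (if Even i then q ^ (i + 1) + 1 else q ^ (i + 1) - 1) ≠ 0 := by
    intro i
    have : 1 < q ^ (i + 1) := Nat.one_lt_pow (by omega) hq1
    split_ifs <;> omega
  rw [v2_mul (by positivity) (prod_ne_zero_iff.2 fun i _ => hne i), v2_odd hq.pow, zero_add, v2_prod _ fun i _ => hne i]
  have h1 : ∀ i ∈ range (2 * m + r), v2 (if Even i then q ^ (i + 1) + 1 else q ^ (i + 1) - 1) =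
      (fun j => v2 (if Odd j then q ^ j + 1 else q ^ j - 1)) (i + 1) := by
    intro i _
    congr 1
    by_cases hi : Even i
    · rw [if_pos hi, if_pos hi.add_one]
    · rw [if_neg hi, if_neg (by rw [Nat.not_odd_iff_even]; exact (Nat.not_even_iff_odd.1 hi).add_one)]
  rw [sum_congr rfl h1]
  refine sum_w' (w := fun j => v2 (if Odd j then q ^ j + 1 else q ^ j - 1)) (fun k => ?_) (fun k => ?_) m r hr
  · rw [if_pos ⟨k, rfl⟩]
    exact v2_pow_add_one_odd hq hq1 ⟨k, rfl⟩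
  · rw [if_neg (by rw [Nat.not_odd_iff_even]; exact even_two_mul _)]
    exact v2_pow_sub_one_even hq hq1 (by omega)

end Cfsg.Agent.FooteOdd.Num

end

-- merged: Cfsg.Agent.FooteOdd.GL
section

/-!
# The instance of `Sys` for the general linear group (helper63, S1252)
-/

set_option autoImplicit false
set_option linter.unusedVariables false
set_option linter.unusedSectionVars false

namespace Cfsg.Agent.FooteOdd

open Equiv Subgroup Cfsg Module

variable {K : Type*} [Field K]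

/-- a basis adapted to a decomposition -/
theorem exists_basis_of_isCompl {ι : Type*} [Fintype ι] [DecidableEq ι] (U1 U2 : Submodule K (ι → K)) (h : IsCompl U1 U2) :
    ∃ b : Basis ι K (ι → K), ∀ i, b i ∈ U1 ∨ b i ∈ U2 := by
  let b0 := ((finBasis K U1).prod (finBasis K U2)).map (Submodule.prodEquivOfIsCompl U1 U2 h)
  have hb0 : ∀ x, b0 x ∈ U1 ∨ b0 x ∈ U2 := by
    rintro (i | j)
    · left
      simp [b0]
    · right
      simp [b0]
  refine ⟨b0.reindex (b0.indexEquiv (Pi.basisFun K ι)), fun i => ?_⟩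
  rw [Basis.reindex_apply]
  exact hb0 _

/-- a linear map from a basis -/
theorem exists_map_basis {ι : Type*} [Fintype ι] [DecidableEq ι] (b : Basis ι K (ι → K)) :
    ∃ k : (ι → K) ≃ₗ[K] (ι → K), ∀ i, k⁻¹ (Pi.single i 1) = b i := by
  refine ⟨b.equivFun, fun i => ?_⟩
  change b.equivFun.symm (Pi.single i 1) = b i
  rw [LinearEquiv.symm_apply_eq]
  funext j
  rw [Basis.equivFun_self, Pi.single_apply]
  simp only [eq_comm]

theorem isCompl_eig {ι : Type*} [Fintype ι] (two : (2 : K) ≠ 0) {t : (ι → K) ≃ₗ[K] (ι → K)} (ht : t * t = 1) :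
    IsCompl (LinearMap.ker (t.toLinearMap - LinearMap.id)) (LinearMap.ker (t.toLinearMap + LinearMap.id)) := by
  have htt : ∀ v, t (t v) = v := fun v => LinearEquiv.congr_fun ht v
  constructor
  · rw [Submodule.disjoint_def]
    intro v h1 h2
    rw [LinearMap.mem_ker] at h1 h2
    simp only [LinearMap.sub_apply, LinearMap.add_apply, LinearMap.id_apply, LinearEquiv.coe_coe] at h1 h2
    have : (2 : K) • v = 0 := by
      have h3 : (2 : K) • v = (t v + v) - (t v - v) := by rw [two_smul]; abel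
      rw [h3, h1, h2, sub_zero]
    exact (smul_eq_zero.1 this).resolve_left two
  · rw [codisjoint_iff, eq_top_iff]
    intro v _
    rw [Submodule.mem_sup]
    refine ⟨(2 : K)⁻¹ • (v + t v), ?_, (2 : K)⁻¹ • (v - t v), ?_, ?_⟩
    · rw [LinearMap.mem_ker]
      simp only [LinearMap.sub_apply, LinearMap.id_apply, LinearEquiv.coe_coe, map_smul, map_add, htt]
      rw [sub_add_sub_cancel, sub_self, smul_zero]
    · rw [LinearMap.mem_ker]
      simp only [LinearMap.add_apply, LinearMap.id_apply, LinearEquiv.coe_coe, map_smul, map_sub, htt]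
      rw [add_comm, sub_self, smul_zero]
    · rw [← smul_add, show v + t v + (v - t v) = (2 : K) • v by rw [two_smul]; abel, smul_smul, inv_mul_cancel₀ two, one_smul]

theorem gl_h1 {ι : Type*} [Fintype ι] [DecidableEq ι] (two : (2 : K) ≠ 0) (t : (ι → K) ≃ₗ[K] (ι → K)) (ht : t * t = 1) :
    ∃ k : (ι → K) ≃ₗ[K] (ι → K), ∃ ε : ι → Kˣ, (∀ i, ε i = 1 ∨ ε i = -1) ∧ k * t * k⁻¹ = dg ε := by
  classical
  obtain ⟨b, hb⟩ := exists_basis_of_isCompl _ _ (isCompl_eig two ht)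
  obtain ⟨k, hk⟩ := exists_map_basis b
  refine ⟨k, fun i => if b i ∈ LinearMap.ker (t.toLinearMap - LinearMap.id) then 1 else -1, fun i => ?_, conj_eq_dg fun i => ?_⟩
  · dsimp only
    split_ifs
    · exact Or.inl rfl
    · exact Or.inr rfl
  · rw [hk]
    split_ifs with h
    · rw [LinearMap.mem_ker] at h
      simp only [LinearMap.sub_apply, LinearMap.id_apply, LinearEquiv.coe_coe] at h
      rw [Units.val_one, one_smul]
      exact sub_eq_zero.1 h
    · have h2 := (hb i).resolve_left h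
      rw [LinearMap.mem_ker] at h2
      simp only [LinearMap.add_apply, LinearMap.id_apply, LinearEquiv.coe_coe] at h2
      rw [Units.val_neg, Units.val_one, neg_one_smul]
      exact eq_neg_of_add_eq_zero_left h2

/-- the norm equation -/
theorem exists_norm_eq [Finite K] (two : (2 : K) ≠ 0) {c : K} (hc : c ≠ 0) (d : K) : ∃ p q : K, p * p - c * (q * q) = d := by
  classical
  obtain ⟨_⟩ := nonempty_fintype K
  have hodd : Fintype.card K % 2 = 1 := by
    refine FiniteField.odd_card_of_char_ne_two ?_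
    intro h
    have : CharP K 2 := by rw [← h]; exact ringChar.charP K
    exact two (CharTwo.two_eq_zero)
  have h1 : (Polynomial.X ^ 2 - Polynomial.C d : Polynomial K).degree = 2 := Polynomial.degree_X_pow_sub_C (by norm_num) d
  have h2 : (Polynomial.C (-c) * Polynomial.X ^ 2 : Polynomial K).degree = 2 := by
    rw [Polynomial.degree_C_mul_X_pow 2 (neg_ne_zero.2 hc)]
    rfl
  obtain ⟨a, b, hab⟩ := FiniteField.exists_root_sum_quadratic h1 h2 hodd
  refine ⟨a, b, ?_⟩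
  simp only [Polynomial.eval_sub, Polynomial.eval_pow, Polynomial.eval_X, Polynomial.eval_C, Polynomial.eval_mul] at hab
  linear_combination hab

section h2

variable {α β : Type*} [Fintype α] [DecidableEq α] [Fintype β] [DecidableEq β]

theorem emb_single (a : α) (k : Fin 2) : emb β a (Pi.single k (1 : K)) = Pi.single (Sum.inl (a, k)) 1 := by
  funext o
  rcases o with (⟨i, l⟩ | j)
  · by_cases hi : i = a
    · subst hi
      rw [emb_same, Pi.single_apply, Pi.single_apply]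
      simp
    · rw [emb_ne hi, Pi.single_apply, if_neg]
      intro h
      exact hi (Prod.ext_iff.1 (Sum.inl.inj h)).1
  · rw [emb_inr, Pi.single_apply, if_neg (by simp)]

/-- a linear map adapted to a plane and a complement -/
theorem exists_block_map (W W' : Submodule K (Ix α β → K)) (h : IsCompl W W') (bW : Basis (Fin 2) K W) (a : α) :
    ∃ k : (Ix α β → K) ≃ₗ[K] (Ix α β → K), (∀ s, k (bW s) = emb β a (Pi.single s 1)) ∧
      ∀ w ∈ W', ∀ s, k w (Sum.inl (a, s)) = 0 := by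
  let b0 := (bW.prod (finBasis K W')).map (Submodule.prodEquivOfIsCompl W W' h)
  let σ0 := b0.indexEquiv (Pi.basisFun K (Ix α β))
  have h0 : σ0 (Sum.inl 0) ≠ σ0 (Sum.inl 1) := fun h => absurd (σ0.injective h) (by simp)
  obtain ⟨π, hπ0, hπ1⟩ := exists_perm_two h0 (show (Sum.inl (a, 0) : Ix α β) ≠ Sum.inl (a, 1) by simp)
  let σ := σ0.trans π
  have hσ : ∀ s : Fin 2, σ (Sum.inl s) = Sum.inl (a, s) := by
    intro s
    fin_cases s
    · exact hπ0
    · exact hπ1
  let b := b0.reindex σ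
  refine ⟨b.equivFun, fun s => ?_, fun w hw s => ?_⟩
  · have h1 : (bW s : Ix α β → K) = b (Sum.inl (a, s)) := by
      rw [Basis.reindex_apply, ← hσ, Equiv.symm_apply_apply]
      simp [b0]
    rw [h1, emb_single]
    funext j
    rw [Basis.equivFun_self, Pi.single_apply]
    simp only [eq_comm]
  · rw [Basis.equivFun_apply, Basis.repr_reindex_apply, ← hσ, Equiv.symm_apply_apply]
    have h2 : (Submodule.prodEquivOfIsCompl W W' h).symm w = (0, ⟨w, hw⟩) := by
      rw [LinearEquiv.symm_apply_eq]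
      simp
    simp only [b0, Basis.map_repr, LinearEquiv.trans_apply, h2]
    simp

theorem gl_h2 [Finite K] [Nonempty α] (two : (2 : K) ≠ 0) (z : (Ix α β → K) ≃ₗ[K] (Ix α β → K)) {c : Kˣ} (hz2 : z * z = sc c)
    (hns : ¬ ∃ c : Kˣ, z = sc c) :
    ∃ w : (Ix α β → K) ≃ₗ[K] (Ix α β → K), LinearEquiv.det w = 1 ∧ ∃ k : (Ix α β → K) ≃ₗ[K] (Ix α β → K), ∃ i j, i ≠ j ∧
      w * z * w⁻¹ = z * (k * tt i j * k⁻¹) ∧ z * (k * tt i j * k⁻¹) = (k * tt i j * k⁻¹) * z := by
  obtain ⟨a⟩ := ‹Nonempty α›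
  have hzz : ∀ v, z (z v) = (c : K) • v := fun v => by
    rw [← LinearEquiv.mul_apply, hz2, sc_apply]
  -- independent vectors
  obtain ⟨v, hv⟩ : ∃ v, LinearIndependent K ![v, z v] := by
    by_contra hcon
    push Not at hcon
    obtain ⟨d, hd⟩ := LinearMap.exists_eq_smul_id_of_forall_notLinearIndependent (f := z.toLinearMap) hcon
    have hd0 : d ≠ 0 := by
      rintro rfl
      rw [zero_smul] at hd
      have h1 : z (Pi.single (Sum.inl (a, 0)) 1) = 0 := LinearMap.congr_fun hd _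
      have h2 := congrFun (z.map_eq_zero_iff.1 h1) (Sum.inl (a, 0))
      simp at h2
    refine hns ⟨Units.mk0 d hd0, LinearEquiv.ext fun v => ?_⟩
    rw [sc_apply]
    exact LinearMap.congr_fun hd v
  set W : Submodule K (Ix α β → K) := Submodule.span K (Set.range ![v, z v]) with hW
  have hWv : v ∈ W := Submodule.subset_span ⟨0, rfl⟩
  have hWzv : z v ∈ W := Submodule.subset_span ⟨1, rfl⟩
  have hWz : ∀ w ∈ W, z w ∈ W := by
    intro w hw
    rw [hW, Matrix.range_cons, Matrix.range_cons, Matrix.range_empty, Set.union_empty, Set.singleton_union,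
      Submodule.mem_span_pair] at hw
    obtain ⟨x, y, rfl⟩ := hw
    rw [map_add, map_smul, map_smul, hzz]
    exact W.add_mem (W.smul_mem _ hWzv) (W.smul_mem _ (W.smul_mem _ hWv))
  obtain ⟨g, hg⟩ := LinearMap.exists_leftInverse_of_injective W.subtype (Submodule.ker_subtype W)
  have hg' : ∀ w (hw : w ∈ W), g w = ⟨w, hw⟩ := fun w hw => LinearMap.congr_fun hg ⟨w, hw⟩
  have hzs : ∀ v, z.symm v = (c : K)⁻¹ • z v := by
    intro v
    rw [LinearEquiv.symm_apply_eq, map_smul, hzz, smul_smul, inv_mul_cancel₀ c.ne_zero, one_smul]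
  -- the averaged projection
  let zW : W →ₗ[K] W := z.toLinearMap.restrict hWz
  have hzW : ∀ w, ((zW w : W) : Ix α β → K) = z w := fun w => rfl
  let f : (Ix α β → K) →ₗ[K] W := (2 : K)⁻¹ • (g + (c : K)⁻¹ • (zW ∘ₗ g ∘ₗ z.toLinearMap))
  have hf : ∀ v, f v = (2 : K)⁻¹ • (g v + (c : K)⁻¹ • zW (g (z v))) := fun v => rfl
  have hfW : ∀ w : W, f w = w := by
    rintro ⟨w, hw⟩
    rw [hf]
    change (2 : K)⁻¹ • (g w + (c : K)⁻¹ • zW (g (z w))) = _
    rw [hg' w hw, hg' (z w) (hWz w hw)]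
    apply Subtype.ext
    change (2 : K)⁻¹ • (w + (c : K)⁻¹ • z (z w)) = w
    rw [hzz, smul_smul, inv_mul_cancel₀ c.ne_zero, one_smul, ← two_smul K, smul_smul, inv_mul_cancel₀ two, one_smul]
  have hfz : ∀ v, f (z v) = zW (f v) := by
    intro v
    rw [hf, hf, hzz, map_smul, map_smul, map_smul, map_add, map_smul]
    congr 1
    apply Subtype.ext
    change (g (z v) : Ix α β → K) + (c : K)⁻¹ • (c : K) • z (g v) = z (g v) + (c : K)⁻¹ • z (z (g (z v)))
    rw [hzz, smul_smul, smul_smul, inv_mul_cancel₀ c.ne_zero, one_smul, one_smul, add_comm]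
  have hcompl : IsCompl W (LinearMap.ker f) := LinearMap.isCompl_of_proj hfW
  have hker : ∀ w ∈ LinearMap.ker f, z w ∈ LinearMap.ker f := by
    intro w hw
    rw [LinearMap.mem_ker] at hw ⊢
    rw [hfz, hw, map_zero]
  obtain ⟨k, hk1, hk2⟩ := exists_block_map W (LinearMap.ker f) hcompl (Basis.span hv) a
  have hb0 : ((Basis.span hv 0 : W) : Ix α β → K) = v := by rw [Basis.span_apply]; rfl
  have hb1 : ((Basis.span hv 1 : W) : Ix α β → K) = z v := by rw [Basis.span_apply]; rfl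
  have hkv : k v = emb β a (Pi.single 0 1) := by rw [← hk1 0, hb0]
  have hkzv : k (z v) = emb β a (Pi.single 1 1) := by rw [← hk1 1, hb1]
  -- the conjugate
  obtain ⟨z', hz'⟩ : ∃ z', z' = k * z * k⁻¹ := ⟨_, rfl⟩
  have hz'k : ∀ u, z' (k u) = k (z u) := by
    intro u
    rw [hz', LinearEquiv.mul_apply, LinearEquiv.mul_apply, ← LinearEquiv.mul_apply k⁻¹ k, inv_mul_cancel]
    rfl
  have hz'2 : z' * z' = sc c := by
    have : z' * z' = k * (z * z) * k⁻¹ := by rw [hz']; group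
    rw [this, hz2, ← sc_comm, mul_inv_cancel_right]
  have hz'0 : z' (emb β a (Pi.single 0 1)) = emb β a (Pi.single 1 1) := by rw [← hkv, hz'k, hkzv]
  have hz'1 : z' (emb β a (Pi.single 1 1)) = (c : K) • emb β a (Pi.single 0 1) := by
    rw [← hkzv, hz'k, hzz, map_smul, hkv]
  have htt : ∀ s : Fin 2, tt (Sum.inl (a, 0)) (Sum.inl (a, 1)) (emb β a (Pi.single s (1 : K))) = -emb β a (Pi.single s 1) :=
    fun s => tt_emb a _
  have hcomm : z' * tt (Sum.inl (a, 0)) (Sum.inl (a, 1)) = tt (Sum.inl (a, 0)) (Sum.inl (a, 1)) * z' := by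
    have hdec : ∀ u : Ix α β → K, ∃ x y : K, ∃ w ∈ LinearMap.ker f, u = x • k v + y • k (z v) + k w := by
      intro u
      obtain ⟨w1, hw1, w2, hw2, hw⟩ := Submodule.mem_sup.1 (show k⁻¹ u ∈ W ⊔ LinearMap.ker f by rw [hcompl.sup_eq_top]; trivial)
      rw [hW, Matrix.range_cons, Matrix.range_cons, Matrix.range_empty, Set.union_empty, Set.singleton_union,
        Submodule.mem_span_pair] at hw1
      obtain ⟨x, y, rfl⟩ := hw1
      refine ⟨x, y, w2, hw2, ?_⟩
      rw [← map_smul, ← map_smul, ← map_add, ← map_add, hw, ← LinearEquiv.mul_apply, mul_inv_cancel]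
      rfl
    apply LinearEquiv.ext
    intro u
    obtain ⟨x, y, w, hw, rfl⟩ := hdec u
    rw [LinearEquiv.mul_apply, LinearEquiv.mul_apply, hkv, hkzv]
    simp only [map_add, map_smul, htt, map_neg, hz'0, hz'1]
    rw [tt_out a (hk2 w hw), hz'k, tt_out a (hk2 _ (hker w hw))]
    simp only [smul_neg]
  -- the conjugating element
  obtain ⟨p, q, hpq⟩ : ∃ p q : K, p * p - (c : K) * (q * q) = -1 := exists_norm_eq two c.ne_zero (-1)
  set y : (Fin 2 → K) ≃ₗ[K] (Fin 2 → K) := m2 p (q * c) (-q) (-p) (by linear_combination -hpq) with hy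
  have hyb : ∀ x : Fin 2 → K, y ![(c : K) * x 1, x 0] = -![(c : K) * y x 1, y x 0] := by
    intro x
    rw [hy, m2_apply, m2_apply]
    funext i
    fin_cases i
    · simp; ring
    · simp; ring
  have hbc := block_conj (β := β) two hz'2 hz'0 hcomm hyb
  refine ⟨k⁻¹ * J (Pi.mulSingle a y, 1) * k, ?_, k⁻¹, Sum.inl (a, 0), Sum.inl (a, 1), by simp, ?_, ?_⟩
  · rw [map_mul, map_mul, map_inv, det_block, hy, det_m2]
    simp
  · have e1 : k⁻¹ * J (Pi.mulSingle a y, (1 : β → Kˣ)) * k * z * (k⁻¹ * J (Pi.mulSingle a y, (1 : β → Kˣ)) * k)⁻¹ =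
        k⁻¹ * (J (Pi.mulSingle a y, (1 : β → Kˣ)) * z' * (J (Pi.mulSingle a y, (1 : β → Kˣ)))⁻¹) * k := by
      rw [hz']; group
    rw [e1, hbc, hz', inv_inv]
    group
  · have e2 : z * (k⁻¹ * tt (Sum.inl (a, 0)) (Sum.inl (a, 1)) * k⁻¹⁻¹) = k⁻¹ * (z' * tt (Sum.inl (a, 0)) (Sum.inl (a, 1))) * k := by
      rw [hz']; group
    have e3 : k⁻¹ * tt (Sum.inl (a, 0)) (Sum.inl (a, 1)) * k⁻¹⁻¹ * z = k⁻¹ * (tt (Sum.inl (a, 0)) (Sum.inl (a, 1)) * z') * k := by
      rw [hz']; group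
    rw [e2, e3, hcomm]

end h2

/-- an element of determinant one of `GL_2` is inverted by a reflection -/
theorem gl_h3 (two : (2 : K) ≠ 0) {x : (Fin 2 → K) ≃ₗ[K] (Fin 2 → K)} (hd : LinearEquiv.det x = 1) :
    ∃ ρ : (Fin 2 → K) ≃ₗ[K] (Fin 2 → K), ρ * ρ = 1 ∧ LinearEquiv.det ρ = -1 ∧ ρ * x * ρ⁻¹ = x⁻¹ := by
  by_cases hv : ∃ v, LinearIndependent K ![v, x v]
  · obtain ⟨v, hv⟩ := hv
    let b : Basis (Fin 2) K (Fin 2 → K) := basisOfLinearIndependentOfCardEqFinrank hv (by simp)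
    obtain ⟨k, hk⟩ := exists_map_basis b
    have hb0 : b 0 = v := by simp [b]
    have hb1 : b 1 = x v := by simp [b]
    obtain ⟨x', hx'⟩ : ∃ x', x' = k * x * k⁻¹ := ⟨_, rfl⟩
    have hkk : ∀ u, k (k⁻¹ u) = u := fun u => by
      rw [← LinearEquiv.mul_apply, mul_inv_cancel]; rfl
    have hx0 : x' (Pi.single 0 1) = Pi.single 1 1 := by
      rw [hx', LinearEquiv.mul_apply, LinearEquiv.mul_apply, hk, hb0, ← hb1, ← hk, hkk]
    have hdet : LinearEquiv.det x' = 1 := by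
      rw [hx', map_mul, map_mul, hd, map_inv]
      simp
    have hx1 : x' (Pi.single 1 1) 0 = -1 := by
      have h1 : LinearMap.det (x' : (Fin 2 → K) →ₗ[K] (Fin 2 → K)) = 1 := by
        rw [← LinearEquiv.coe_det, hdet, Units.val_one]
      rw [← LinearMap.det_toMatrix', Matrix.det_fin_two] at h1
      simp only [LinearMap.toMatrix'_apply, LinearEquiv.coe_coe] at h1
      have e0 : (fun j' : Fin 2 => if j' = 0 then (1 : K) else 0) = Pi.single 0 1 := by
        funext j; rw [Pi.single_apply]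
      have e1 : (fun j' : Fin 2 => if j' = 1 then (1 : K) else 0) = Pi.single 1 1 := by
        funext j; rw [Pi.single_apply]
      simp only [e0, e1, hx0] at h1
      simp at h1
      linear_combination -h1
    set ρ' : (Fin 2 → K) ≃ₗ[K] (Fin 2 → K) := pm (swap 0 1) with hρ'
    have hρ0 : ρ' (Pi.single 0 1) = Pi.single 1 1 := by
      funext i
      rw [hρ', pm_apply]
      fin_cases i <;> simp
    have hρ1 : ρ' (Pi.single 1 1) = Pi.single 0 1 := by
      funext i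
      rw [hρ', pm_apply]
      fin_cases i <;> simp
    have hρρ : ρ' * ρ' = 1 := by
      rw [hρ', ← map_mul, swap_mul_self, map_one]
    have hρd : LinearEquiv.det ρ' = -1 := by
      rw [hρ', det_pm, Perm.sign_swap (by decide)]
      simp
    have hinv : ρ' * x' * (ρ' * x') = 1 := by
      refine ext_single fun i => ?_
      have e : x' (Pi.single 1 1) = -Pi.single 0 1 + (x' (Pi.single 1 1) 1) • (Pi.single 1 1 : Fin 2 → K) := by
        funext j
        fin_cases j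
        · simp [hx1]
        · simp
      fin_cases i
      · change ρ' (x' (ρ' (x' (Pi.single 0 1)))) = Pi.single 0 1
        rw [hx0, hρ1, hx0, hρ1]
      · change ρ' (x' (ρ' (x' (Pi.single 1 1)))) = Pi.single 1 1
        rw [e, map_add, map_neg, map_smul, hρ0, hρ1, map_add, map_neg, map_smul, hx0, e, map_add, map_neg, map_add, map_neg,
          map_smul, map_smul, hρ0, hρ1]
        simp
    refine ⟨k⁻¹ * ρ' * k, ?_, ?_, ?_⟩
    · have : k⁻¹ * ρ' * k * (k⁻¹ * ρ' * k) = k⁻¹ * (ρ' * ρ') * k := by group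
      rw [this, hρρ]
      group
    · rw [map_mul, map_mul, hρd, map_inv]
      simp
    · have hρi : ρ'⁻¹ = ρ' := inv_eq_of_mul_eq_one_right hρρ
      have h1 : ρ' * x' * ρ'⁻¹ = x'⁻¹ := by
        rw [hρi, eq_inv_iff_mul_eq_one, mul_assoc (ρ' * x')]
        exact hinv
      have h2 : k⁻¹ * ρ' * k * x * (k⁻¹ * ρ' * k)⁻¹ = k⁻¹ * (ρ' * x' * ρ'⁻¹) * k := by
        rw [hx']; group
      rw [h2, h1, hx']
      group
  · push Not at hv
    obtain ⟨d, hd'⟩ := LinearMap.exists_eq_smul_id_of_forall_notLinearIndependent (f := x.toLinearMap) hv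
    have hxv : ∀ v, x v = d • v := fun v => LinearMap.congr_fun hd' v
    have hdd : d * d = 1 := by
      have h1 : LinearMap.det (x : (Fin 2 → K) →ₗ[K] (Fin 2 → K)) = 1 := by
        rw [← LinearEquiv.coe_det, hd, Units.val_one]
      have h2 : (x : (Fin 2 → K) →ₗ[K] (Fin 2 → K)) = d • LinearMap.id := hd'
      rw [h2, LinearMap.det_smul, LinearMap.det_id, Module.finrank_fin_fun, mul_one, pow_two] at h1
      exact h1
    have hxx : x * x = 1 := by
      apply LinearEquiv.ext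
      intro v
      rw [LinearEquiv.mul_apply, hxv, hxv, smul_smul, hdd, one_smul]
      rfl
    set ρ : (Fin 2 → K) ≃ₗ[K] (Fin 2 → K) := dg (Pi.mulSingle 0 (-1)) with hρ
    have hρρ : ρ * ρ = 1 := by
      rw [hρ, ← map_mul, ← Pi.mulSingle_mul]
      simp
    refine ⟨ρ, hρρ, ?_, ?_⟩
    · rw [hρ, det_dg, Finset.prod_pi_mulSingle']
      simp
    · have hxi : x⁻¹ = x := inv_eq_of_mul_eq_one_right hxx
      rw [hxi, mul_inv_eq_iff_eq_mul]
      apply LinearEquiv.ext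
      intro v
      rw [LinearEquiv.mul_apply, LinearEquiv.mul_apply, hxv, hxv, map_smul]

end Cfsg.Agent.FooteOdd

end

-- merged: Cfsg.Agent.FooteOdd.Main
section

/-!
# Strongly closed 2-subgroups of linear groups: the main theorem (helper63, S1252)
-/

set_option autoImplicit false
set_option linter.unusedVariables false
set_option linter.unusedSectionVars false

namespace Cfsg.Agent.FooteOdd

open Equiv Subgroup Cfsg
open Cfsg.Agent.ClosedTwo.Elem

variable {K : Type*} [Field K] {α β : Type*} [Fintype α] [DecidableEq α] [Fintype β] [DecidableEq β]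

/-- the group of the diagonal operators of determinant one with entries in a 2-group -/
noncomputable def dgP (ι : Type*) [Fintype ι] [DecidableEq ι] (C : Subgroup Kˣ) : Subgroup ((ι → K) ≃ₗ[K] (ι → K)) :=
  (Subgroup.pi Set.univ fun _ : ι => C).map dg ⊓ (LinearEquiv.det : _ →* Kˣ).ker

theorem mem_dgP {ι : Type*} [Fintype ι] [DecidableEq ι] {C : Subgroup Kˣ} {δ : ι → Kˣ} (hδ : ∀ i, δ i ∈ C)
    (h1 : ∏ i, δ i = 1) : dg δ ∈ dgP ι C := by
  refine ⟨⟨δ, fun i _ => hδ i, rfl⟩, ?_⟩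
  change LinearEquiv.det (dg δ) = 1
  rw [det_dg, h1]

theorem isPGroup_dgP {ι : Type*} [Fintype ι] [DecidableEq ι] {C : Subgroup Kˣ} [Finite C] (hC : IsPGroup 2 ↥C) :
    IsPGroup 2 ↥(dgP (K := K) ι C) := by
  have hp : Fact (Nat.Prime 2) := ⟨Nat.prime_two⟩
  obtain ⟨n, hn⟩ := IsPGroup.iff_card.1 hC
  have key : ∀ c ∈ C, c ^ 2 ^ n = 1 := by
    intro c hc
    have := orderOf_dvd_natCard (⟨c, hc⟩ : ↥C)
    rw [hn] at this
    have h2 := orderOf_dvd_iff_pow_eq_one.1 this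
    exact congrArg Subtype.val h2
  rintro ⟨x, ⟨⟨δ, hδ, rfl⟩, hx⟩⟩
  refine ⟨n, Subtype.ext ?_⟩
  change (dg δ) ^ 2 ^ n = 1
  rw [← map_pow]
  have : δ ^ 2 ^ n = 1 := by
    funext i
    exact key _ (hδ i (Set.mem_univ i))
  rw [this, map_one]

namespace Sys

variable {s : Sys K α β} {G : Type*} [Group G] {ψ : ↥s.Γ →* G} {A : Subgroup G} [Finite G] {S : Sylow 2 G}

theorem dgP_le (s : Sys K α β) {C : Subgroup Kˣ} (hC : C ≤ s.D) : dgP (Ix α β) C ≤ s.Γ := by
  rintro x ⟨⟨δ, hδ, rfl⟩, hx⟩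
  exact ⟨s.diag _ fun i => hC (hδ i (Set.mem_univ i)), hx⟩

/-- diagonal operators -/
theorem CC.dg_of [Nonempty (Ix α β)] (hA : IsStronglyClosed A (S : Subgroup G)) {C : Subgroup Kˣ} [Finite C] (hC : C ≤ s.D)
    (hC2 : IsPGroup 2 ↥C)
    (h : ∀ i j, i ≠ j → ∀ c ∈ C, s.CC ψ A (dg (Pi.mulSingle i c * Pi.mulSingle j c⁻¹)))
    {δ : Ix α β → Kˣ} (hδ : ∀ i, δ i ∈ C) (h1 : ∏ i, δ i = 1) : s.CC ψ A (dg δ) := by
  have key := dg_mem_of (s.ccSub ψ hA (dgP (Ix α β) C) (s.dgP_le hC) (isPGroup_dgP hC2)) C ?_ δ hδ h1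
  · exact key.2
  · intro i j hij c hc
    refine ⟨mem_dgP (fun k => C.mul_mem ?_ ?_) ?_, h i j hij c hc⟩
    · rw [Pi.mulSingle_apply]; split_ifs
      · exact hc
      · exact C.one_mem
    · rw [Pi.mulSingle_apply]; split_ifs
      · exact C.inv_mem hc
      · exact C.one_mem
    · simp only [Pi.mul_apply, Finset.prod_mul_distrib, Finset.prod_pi_mulSingle']
      simp

/-- **Step 2**: all the involutions. -/
theorem CC.invol [Nonempty (Ix α β)] (hA : IsStronglyClosed A (S : Subgroup G))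
    (htt : ∀ i j : Ix α β, i ≠ j → s.CC ψ A (tt i j)) {t : (Ix α β → K) ≃ₗ[K] (Ix α β → K)} (ht : t ∈ s.Γ) (h2 : t * t = 1) :
    s.CC ψ A t := by
  obtain ⟨k, hk, ε, hε, he⟩ := s.h1 t (s.mem_Γ.1 ht).1 h2
  refine CC.of_conj hk ?_
  have hm := s.conj_mem hk ht
  rw [he] at hm ⊢
  have hdet := (s.mem_Γ.1 hm).2
  rw [det_dg] at hdet
  have hneg : ∀ c ∈ zpowers (-1 : Kˣ), c = 1 ∨ c = -1 := by
    intro c hc
    obtain ⟨n, rfl⟩ := mem_zpowers_iff.1 hc
    rcases Int.even_or_odd n with hn | hn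
    · left; exact hn.neg_one_zpow
    · right; exact hn.neg_one_zpow
  have hfin : Finite ↥(zpowers (-1 : Kˣ)) := by
    have : IsOfFinOrder (-1 : Kˣ) := isOfFinOrder_iff_pow_eq_one.2 ⟨2, by norm_num, by simp⟩
    exact Set.Finite.to_subtype (s := (zpowers (-1 : Kˣ) : Set Kˣ)) (finite_zpowers.2 this)
  refine CC.dg_of hA (C := zpowers (-1 : Kˣ)) (zpowers_le.2 s.neg) ?_ ?_ ?_ hdet
  · rintro ⟨c, hc⟩
    refine ⟨1, Subtype.ext ?_⟩
    change c ^ 2 ^ 1 = 1
    rcases hneg c hc with rfl | rfl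
    · simp
    · simp
  · intro i j hij c hc
    rcases hneg c hc with rfl | rfl
    · simp only [inv_one, Pi.mulSingle_one, mul_one, map_one]
      exact CC.one
    · have := htt i j hij
      rw [tt] at this
      rwa [inv_neg, inv_one]
  · intro i
    rcases hε i with h | h
    · rw [h]; exact one_mem _
    · rw [h]; exact mem_zpowers _

/-- an involution with determinant `-1` outside the block `i` -/
theorem exists_flip (s : Sys K α β) (hex : Nontrivial α ∨ Nonempty β) (i : α) :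
    ∃ q : (α → (Fin 2 → K) ≃ₗ[K] (Fin 2 → K)) × (β → Kˣ), q.1 i = 1 ∧ q * q = 1 ∧ J q ∈ s.L ∧ LinearEquiv.det (J q) = -1 := by
  rcases hex with hα | ⟨⟨j⟩⟩
  · obtain ⟨i', hi'⟩ := exists_ne i
    set r : (Fin 2 → K) ≃ₗ[K] (Fin 2 → K) := dg (Pi.mulSingle 0 (-1)) with hr
    have hrL : r ∈ s.L2 := s.diag2 _ fun j => by
      rw [Pi.mulSingle_apply]; split_ifs
      · exact s.neg
      · exact s.D.one_mem
    have hr2 : r * r = 1 := by
      rw [hr, ← map_mul, ← Pi.mulSingle_mul]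
      simp
    have hrd : LinearEquiv.det r = -1 := by
      rw [hr, det_dg, Finset.prod_pi_mulSingle']
      simp
    refine ⟨(Pi.mulSingle i' r, 1), Pi.mulSingle_eq_of_ne hi'.symm _, ?_, ?_, ?_⟩
    · ext1
      · change (Pi.mulSingle i' r * Pi.mulSingle i' r : α → (Fin 2 → K) ≃ₗ[K] (Fin 2 → K)) = 1
        rw [← Pi.mulSingle_mul, hr2, Pi.mulSingle_one]
      · simp
    · refine s.blk _ (fun j => ?_) fun j => s.D.one_mem
      change (Pi.mulSingle i' r : α → _) j ∈ _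
      rw [Pi.mulSingle_apply]; split_ifs
      · exact hrL
      · exact s.L2.one_mem
    · rw [det_J]
      change (∏ j, LinearEquiv.det ((Pi.mulSingle i' r : α → _) j)) * ∏ j : β, (1 : Kˣ) = -1
      rw [Finset.prod_const_one, mul_one, Finset.prod_eq_single i']
      · rw [Pi.mulSingle_eq_same, hrd]
      · intro j _ hj
        rw [Pi.mulSingle_eq_of_ne hj, map_one]
      · intro h
        exact absurd (Finset.mem_univ _) h
  · refine ⟨(1, Pi.mulSingle j (-1)), rfl, ?_, ?_, ?_⟩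
    · ext1
      · simp
      · change Pi.mulSingle j (-1) * Pi.mulSingle j (-1) = (1 : β → Kˣ)
        rw [← Pi.mulSingle_mul]
        simp
    · refine s.blk _ (fun j => s.L2.one_mem) fun k => ?_
      change (Pi.mulSingle j (-1) : β → Kˣ) k ∈ _
      rw [Pi.mulSingle_apply]; split_ifs
      · exact s.neg
      · exact s.D.one_mem
    · rw [det_J]
      change (∏ j : α, LinearEquiv.det (1 : (Fin 2 → K) ≃ₗ[K] (Fin 2 → K))) * ∏ k : β, (Pi.mulSingle j (-1) : β → Kˣ) k = -1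
      rw [map_one, Finset.prod_const_one, one_mul, Finset.prod_pi_mulSingle']
      simp

/-- **Step 3**: blocks of determinant one. -/
theorem CC.block (hex : Nontrivial α ∨ Nonempty β) (hA : IsStronglyClosed A (S : Subgroup G))
    (htt : ∀ i j : Ix α β, i ≠ j → s.CC ψ A (tt i j)) (i : α) {x : (Fin 2 → K) ≃ₗ[K] (Fin 2 → K)} (hx : x ∈ s.L2)
    (hd : LinearEquiv.det x = 1) {n : ℕ} (hn : x ^ 2 ^ n = 1) : s.CC ψ A (J (Pi.mulSingle i x, 1)) := by
  have : Nonempty (Ix α β) := ⟨Sum.inl (i, 0)⟩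
  obtain ⟨ρ, hρ, hρ2, hρd, hρx⟩ := s.h3 x hx hd ⟨n, hn⟩
  obtain ⟨q, hqi, hq2, hqL, hqd⟩ := s.exists_flip hex i
  set ms : ((Fin 2 → K) ≃ₗ[K] (Fin 2 → K)) → (α → (Fin 2 → K) ≃ₗ[K] (Fin 2 → K)) × (β → Kˣ) := fun y => (Pi.mulSingle i y, 1) with hms
  have msL : ∀ y ∈ s.L2, J (ms y) ∈ s.L := by
    intro y hy
    refine s.blk _ (fun j => ?_) fun j => s.D.one_mem
    change (Pi.mulSingle i y : α → _) j ∈ _
    rw [Pi.mulSingle_apply]; split_ifs
    · exact hy
    · exact s.L2.one_mem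
  have msmul : ∀ y y', ms (y * y') = ms y * ms y' := by
    intro y y'
    ext1
    · exact Pi.mulSingle_mul (f := fun _ : α => (Fin 2 → K) ≃ₗ[K] (Fin 2 → K)) i y y'
    · simp [hms]
  have ms1 : ms 1 = 1 := by
    ext1
    · exact Pi.mulSingle_one i
    · rfl
  have msd : ∀ y, LinearEquiv.det (J (ms y)) = LinearEquiv.det y := by
    intro y
    rw [det_J]
    change (∏ j, LinearEquiv.det ((Pi.mulSingle i y : α → _) j)) * ∏ j : β, (1 : Kˣ) = _
    rw [Finset.prod_const_one, mul_one, Finset.prod_eq_single i]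
    · rw [Pi.mulSingle_eq_same]
    · intro j _ hj
      rw [Pi.mulSingle_eq_of_ne hj, map_one]
    · intro h
      exact absurd (Finset.mem_univ _) h
  have hcomm : ∀ y, ms y * q = q * ms y := by
    intro y
    ext1
    · funext j
      change (Pi.mulSingle i y : α → _) j * q.1 j = q.1 j * (Pi.mulSingle i y : α → _) j
      by_cases hj : j = i
      · subst hj
        rw [hqi, mul_one, one_mul]
      · rw [Pi.mulSingle_eq_of_ne hj, mul_one, one_mul]
    · simp [hms]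
  have hρi : ρ⁻¹ = ρ := inv_eq_of_mul_eq_one_right hρ2
  have hρx' : ρ * x * (ρ * x) = 1 := by
    have : ρ * x * (ρ * x) = (ρ * x * ρ⁻¹) * x := by rw [hρi]; group
    rw [this, hρx, inv_mul_cancel]
  have gen : ∀ y ∈ s.L2, y * y = 1 → LinearEquiv.det y = -1 → s.CC ψ A (J (ms y * q)) := by
    intro y hy hy2 hyd
    refine CC.invol hA htt (s.mem_Γ.2 ⟨?_, ?_⟩) ?_
    · rw [map_mul]
      exact s.L.mul_mem (msL y hy) hqL
    · rw [map_mul, map_mul, msd, hyd, hqd]
      simp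
    · rw [← map_mul, show ms y * q * (ms y * q) = (ms y * ms y) * (q * q) by rw [mul_assoc, ← mul_assoc q, ← hcomm]; group, hq2,
        ← msmul, hy2, ms1, mul_one, map_one]
  refine CC.of_inverted hA (t := J (ms ρ * q)) (n := n) ?_ ?_ ?_ (gen ρ hρ hρ2 hρd) ?_
  · rw [← map_mul, show ms ρ * q * (ms ρ * q) = (ms ρ * ms ρ) * (q * q) by rw [mul_assoc, ← mul_assoc q, ← hcomm]; group, hq2,
      ← msmul, hρ2, ms1, mul_one, map_one]
  · rw [← map_inv, ← map_inv, ← map_mul, ← map_mul]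
    congr 1
    change ms ρ * q * ms x * (ms ρ * q)⁻¹ = (ms x)⁻¹
    have e1 : (ms x)⁻¹ = ms x⁻¹ := by
      rw [inv_eq_iff_mul_eq_one, ← msmul, mul_inv_cancel, ms1]
    rw [e1, ← hρx, mul_inv_eq_iff_eq_mul, msmul, msmul, mul_assoc (ms ρ) q, ← hcomm x]
    have e2 : ms ρ⁻¹ * ms ρ = 1 := by rw [← msmul, inv_mul_cancel, ms1]
    rw [mul_assoc (ms ρ * ms x), ← mul_assoc (ms ρ⁻¹), e2, one_mul, mul_assoc]
  · rw [← map_pow]
    have : ∀ k : ℕ, ms x ^ k = ms (x ^ k) := by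
      intro k
      induction k with
      | zero => rw [pow_zero, pow_zero, ms1]
      | succ k ih => rw [pow_succ, pow_succ, msmul, ih]
    change J (ms x ^ 2 ^ n) = 1
    rw [this, hn, ms1, map_one]
  · rw [← map_mul]
    change s.CC ψ A (J (ms ρ * q * ms x))
    rw [mul_assoc, ← hcomm, ← mul_assoc, ← msmul]
    refine gen _ (s.L2.mul_mem hρ hx) hρx' ?_
    rw [map_mul, hρd, hd, mul_one]

/-- **Step 4**: permutations of the blocks. -/
theorem CC.bp_of [Nonempty (Ix α β)] (hA : IsStronglyClosed A (S : Subgroup G))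
    (htt : ∀ i j : Ix α β, i ≠ j → s.CC ψ A (tt i j)) {π : Perm α} {n : ℕ} (hn : π ^ 2 ^ n = 1) : s.CC ψ A (bp π) := by
  obtain ⟨t, ht, htx, -⟩ := Cfsg.Agent.ClosedTwo.Alt.exists_inverting π
  have gen : ∀ u : Perm α, u * u = 1 → s.CC ψ A (bp u) := by
    intro u hu
    refine CC.invol hA htt (s.mem_Γ.2 ⟨s.perm _, det_bp u⟩) ?_
    rw [← map_mul, hu, map_one]
  have hti : t⁻¹ = t := inv_eq_of_mul_eq_one_right ht
  refine CC.of_inverted hA (t := bp t) (n := n) ?_ ?_ ?_ (gen t ht) ?_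
  · rw [← map_mul, ht, map_one]
  · rw [← map_inv, ← map_inv, ← map_mul, ← map_mul, htx]
  · rw [← map_pow, hn, map_one]
  · rw [← map_mul]
    refine gen _ ?_
    have : t * π * (t * π) = (t * π * t⁻¹) * π := by rw [hti]; group
    rw [this, htx, inv_mul_cancel]

/-- **Step 5**: diagonal operators. -/
theorem CC.diag_of [Nonempty α] (hex : Nontrivial α ∨ Nonempty β) (hA : IsStronglyClosed A (S : Subgroup G))
    (htt : ∀ i j : Ix α β, i ≠ j → s.CC ψ A (tt i j)) {c : Kˣ} (hc : c ∈ s.D) {n : ℕ} (hn : c ^ 2 ^ n = 1)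
    {i j : Ix α β} (hij : i ≠ j) : s.CC ψ A (dg (Pi.mulSingle i c * Pi.mulSingle j c⁻¹)) := by
  obtain ⟨a⟩ := ‹Nonempty α›
  have h0 : (Sum.inl (a, 0) : Ix α β) ≠ Sum.inl (a, 1) := by simp
  obtain ⟨σ, rfl, rfl⟩ := exists_perm_two h0 hij
  set x : (Fin 2 → K) ≃ₗ[K] (Fin 2 → K) := dg (Pi.mulSingle 0 c * Pi.mulSingle 1 c⁻¹) with hx
  have hxL : x ∈ s.L2 := s.diag2 _ fun k => s.D.mul_mem (by
    rw [Pi.mulSingle_apply]; split_ifs
    · exact hc
    · exact s.D.one_mem) (by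
    rw [Pi.mulSingle_apply]; split_ifs
    · exact s.D.inv_mem hc
    · exact s.D.one_mem)
  have hxd : LinearEquiv.det x = 1 := by
    rw [hx, det_dg, Fin.prod_univ_two]
    simp
  have hxn : x ^ 2 ^ n = 1 := by
    rw [hx, ← map_pow, mul_pow]
    have e1 : ∀ (k : Fin 2) (d : Kˣ), d ^ 2 ^ n = 1 → (Pi.mulSingle k d : Fin 2 → Kˣ) ^ 2 ^ n = 1 := by
      intro k d hd
      have := (map_pow (MonoidHom.mulSingle (fun _ : Fin 2 => Kˣ) k) d (2 ^ n)).symm
      rw [hd, map_one] at this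
      exact this
    rw [e1 0 c hn, e1 1 c⁻¹ (by rw [inv_pow, hn, inv_one]), one_mul, map_one]
  have h1 := CC.block (s := s) (ψ := ψ) hex hA htt a hxL hxd hxn
  have h2 := h1.conj (s.perm σ)
  have e : J (Pi.mulSingle a x, (1 : β → Kˣ)) = dg (Pi.mulSingle (Sum.inl (a, 0)) c * Pi.mulSingle (Sum.inl (a, 1)) c⁻¹) := by
    ext v (⟨i, k⟩ | j)
    · rw [J_inl, dg_apply]
      change ((Pi.mulSingle a x : α → (Fin 2 → K) ≃ₗ[K] (Fin 2 → K)) i) _ k = _
      by_cases hi : i = a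
      · subst hi
        rw [Pi.mulSingle_eq_same, hx, dg_apply]
        fin_cases k <;> simp
      · rw [Pi.mulSingle_eq_of_ne hi]
        simp [hi]
    · rw [J_inr, dg_apply]
      simp
  rw [e, pm_dg] at h2
  have e2 : (Pi.mulSingle (Sum.inl (a, 0)) c * Pi.mulSingle (Sum.inl (a, 1)) c⁻¹ : Ix α β → Kˣ) ∘ ⇑σ⁻¹ =
      Pi.mulSingle (σ (Sum.inl (a, 0))) c * Pi.mulSingle (σ (Sum.inl (a, 1))) c⁻¹ := by
    rw [← mulSingle_comp_inv, ← mulSingle_comp_inv]
    rfl
  rw [e2] at h2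
  exact h2

end Sys

end Cfsg.Agent.FooteOdd

end

-- merged: Cfsg.Agent.FooteOdd.Syl
section

/-!
# Strongly closed 2-subgroups of linear groups: Sylow 2-subgroups (helper63, S1252)
-/

set_option autoImplicit false
set_option linter.unusedVariables false
set_option linter.unusedSectionVars false

namespace Cfsg.Agent.FooteOdd

open Equiv Subgroup Cfsg
open Cfsg.Agent.ClosedTwo.Elem

variable {K : Type*} [Field K] {α β : Type*}

theorem isPGroup_zpowers {D : Type*} [Group D] {x : D} {n : ℕ} (hx : x ^ 2 ^ n = 1) : IsPGroup 2 ↥(zpowers x) := by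
  rintro ⟨a, ha⟩
  obtain ⟨m, rfl⟩ := mem_zpowers_iff.1 ha
  refine ⟨n, Subtype.ext ?_⟩
  change (x ^ m) ^ 2 ^ n = 1
  rw [← zpow_natCast, ← zpow_mul, mul_comm, zpow_mul, zpow_natCast, hx, one_zpow]

theorem mem_sylow_of_comm {D : Type*} [CommGroup D] [Finite D] (S : Sylow 2 D) {x : D} {n : ℕ} (hx : x ^ 2 ^ n = 1) :
    x ∈ (S : Subgroup D) := by
  have hp : Fact (Nat.Prime 2) := ⟨Nat.prime_two⟩
  obtain ⟨g, hg⟩ := exists_conj_le S (isPGroup_zpowers hx)
  have := hg x (mem_zpowers x)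
  rwa [mul_comm g x, mul_inv_cancel_right] at this

/-- block matrices with entries in given groups -/
def R (P : Subgroup ((Fin 2 → K) ≃ₗ[K] (Fin 2 → K))) (D2 : Subgroup Kˣ) (Q : Subgroup (Perm α)) :
    Subgroup ((Ix α β → K) ≃ₗ[K] (Ix α β → K)) where
  carrier := {g | ∃ p : (α → (Fin 2 → K) ≃ₗ[K] (Fin 2 → K)) × (β → Kˣ), ∃ π ∈ Q, (∀ i, p.1 i ∈ P) ∧ (∀ j, p.2 j ∈ D2) ∧
    g = J p * bp π}
  mul_mem' := by
    rintro _ _ ⟨p, π, hπ, h1, h2, rfl⟩ ⟨p', π', hπ', h1', h2', rfl⟩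
    refine ⟨p * (p'.1 ∘ ⇑π⁻¹, p'.2), π * π', Q.mul_mem hπ hπ', fun i => P.mul_mem (h1 i) (h1' _), fun j => D2.mul_mem (h2 j) (h2' j), ?_⟩
    rw [map_mul, map_mul, ← bp_J]
    group
  one_mem' := ⟨1, 1, Q.one_mem, fun i => P.one_mem, fun j => D2.one_mem, by simp⟩
  inv_mem' := by
    rintro _ ⟨p, π, hπ, h1, h2, rfl⟩
    refine ⟨(p⁻¹.1 ∘ ⇑π, p⁻¹.2), π⁻¹, Q.inv_mem hπ, fun i => P.inv_mem (h1 _), fun j => D2.inv_mem (h2 j), ?_⟩
    have := bp_J π⁻¹ p⁻¹
    rw [inv_inv] at this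
    rw [← this, mul_inv_rev, map_inv, map_inv]
    group

theorem mem_R {P : Subgroup ((Fin 2 → K) ≃ₗ[K] (Fin 2 → K))} {D2 : Subgroup Kˣ} {Q : Subgroup (Perm α)}
    {g : (Ix α β → K) ≃ₗ[K] (Ix α β → K)} : g ∈ R P D2 Q ↔
      ∃ p : (α → (Fin 2 → K) ≃ₗ[K] (Fin 2 → K)) × (β → Kˣ), ∃ π ∈ Q, (∀ i, p.1 i ∈ P) ∧ (∀ j, p.2 j ∈ D2) ∧ g = J p * bp π :=
  Iff.rfl

theorem J_injective : Function.Injective (J : (α → (Fin 2 → K) ≃ₗ[K] (Fin 2 → K)) × (β → Kˣ) →* _) := by
  rw [injective_iff_map_eq_one]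
  intro p hp
  ext1
  · funext i
    ext x k
    have := congrFun (LinearEquiv.congr_fun hp (Sum.elim (fun y => x y.2) fun _ => 0)) (Sum.inl (i, k))
    simpa using this
  · funext j
    have := congrFun (LinearEquiv.congr_fun hp (fun _ => 1)) (Sum.inr j)
    exact Units.ext (by simpa using this)

theorem eq_one_of_J_eq_bp [DecidableEq α] [DecidableEq β] {p : (α → (Fin 2 → K) ≃ₗ[K] (Fin 2 → K)) × (β → Kˣ)} {π : Perm α}
    (h : J p = bp π) : π = 1 := by
  ext i
  by_contra hi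
  have := congrFun (LinearEquiv.congr_fun h (Pi.single (Sum.inl (i, 0)) 1)) (Sum.inl (π i, 0))
  rw [J_inl, bp_inl, show π⁻¹ (π i) = i from π.symm_apply_apply i, Pi.single_eq_same] at this
  have e : (fun s => (Pi.single (Sum.inl (i, 0)) 1 : Ix α β → K) (Sum.inl (π i, s))) = 0 := by
    funext s
    rw [Pi.single_apply, if_neg]
    · rfl
    · intro h1
      exact hi (Prod.ext_iff.1 (Sum.inl.inj h1)).1
  rw [e, map_zero] at this
  exact zero_ne_one this

theorem card_R [Fintype α] [DecidableEq α] [Fintype β] [DecidableEq β] (P : Subgroup ((Fin 2 → K) ≃ₗ[K] (Fin 2 → K)))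
    (D2 : Subgroup Kˣ) (Q : Subgroup (Perm α)) :
    Nat.card ↥(R (β := β) P D2 Q) = Nat.card P ^ Fintype.card α * Nat.card D2 ^ Fintype.card β * Nat.card Q := by
  let f : ((α → ↥P) × (β → ↥D2)) × ↥Q → ↥(R (β := β) P D2 Q) := fun x =>
    ⟨J (fun i => (x.1.1 i : (Fin 2 → K) ≃ₗ[K] (Fin 2 → K)), fun j => (x.1.2 j : Kˣ)) * bp x.2, _, _, x.2.2, fun i => (x.1.1 i).2,
      fun j => (x.1.2 j).2, rfl⟩
  have hf : Function.Bijective f := by
    constructor
    · rintro ⟨⟨a, c⟩, π⟩ ⟨⟨a', c'⟩, π'⟩ h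
      have h1 : J (fun i => (a i : (Fin 2 → K) ≃ₗ[K] (Fin 2 → K)), fun j => (c j : Kˣ)) * bp (π : Perm α) =
        J (fun i => (a' i : (Fin 2 → K) ≃ₗ[K] (Fin 2 → K)), fun j => (c' j : Kˣ)) * bp (π' : Perm α) := congrArg Subtype.val h
      have h2 : J ((fun i => (a' i : (Fin 2 → K) ≃ₗ[K] (Fin 2 → K)), fun j => (c' j : Kˣ))⁻¹ *
          (fun i => (a i : (Fin 2 → K) ≃ₗ[K] (Fin 2 → K)), fun j => (c j : Kˣ))) = bp ((π' : Perm α) * (π : Perm α)⁻¹) := by
        rw [map_mul, map_mul, map_inv, map_inv, inv_mul_eq_iff_eq_mul, ← mul_assoc, ← h1, mul_inv_cancel_right]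
      have h3 := eq_one_of_J_eq_bp h2
      have h4 : π' = π := Subtype.ext (mul_inv_eq_one.1 h3)
      subst h4
      have h5 := J_injective (mul_right_cancel h1)
      have h6 := (Prod.ext_iff.1 h5).1
      have h7 := (Prod.ext_iff.1 h5).2
      refine Prod.ext (Prod.ext (funext fun i => Subtype.ext (congrFun h6 i)) (funext fun i => Subtype.ext (congrFun h7 i))) rfl
    · rintro ⟨_, p, π, hπ, h1, h2, rfl⟩
      exact ⟨((fun i => ⟨p.1 i, h1 i⟩, fun j => ⟨p.2 j, h2 j⟩), ⟨π, hπ⟩), rfl⟩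
  rw [← Nat.card_congr (Equiv.ofBijective f hf), Nat.card_prod, Nat.card_prod, Nat.card_fun, Nat.card_fun,
    Nat.card_eq_fintype_card (α := α), Nat.card_eq_fintype_card (α := β)]

namespace Sys

variable [Fintype α] [DecidableEq α] [Fintype β] [DecidableEq β] {s : Sys K α β} {G : Type*} [Group G] {ψ : ↥s.Γ →* G}
  {A : Subgroup G} [Finite G] {S : Sylow 2 G}

/-- **Step 6**: all the 2-elements. -/
theorem CC.all [Finite K] [Nonempty α] (hex : Nontrivial α ∨ Nonempty β) (hA : IsStronglyClosed A (S : Subgroup G))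
    (htt : ∀ i j : Ix α β, i ≠ j → s.CC ψ A (tt i j)) {g : (Ix α β → K) ≃ₗ[K] (Ix α β → K)} (hg : g ∈ s.Γ) {n : ℕ}
    (hn : g ^ 2 ^ n = 1) : s.CC ψ A g := by
  have hp : Fact (Nat.Prime 2) := ⟨Nat.prime_two⟩
  have hf1 : Finite ((Ix α β → K) ≃ₗ[K] (Ix α β → K)) := Finite.of_injective _ DFunLike.coe_injective
  have hf2 : Finite ((Fin 2 → K) ≃ₗ[K] (Fin 2 → K)) := Finite.of_injective _ DFunLike.coe_injective
  have hne : Nonempty (Ix α β) := by
    obtain ⟨a⟩ := ‹Nonempty α›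
    exact ⟨Sum.inl (a, 0)⟩
  -- the Sylow subgroups
  set SD : Sylow 2 ↥s.D := default with hSD
  set D2 : Subgroup Kˣ := (SD : Subgroup ↥s.D).map s.D.subtype with hD2
  have hD2le : D2 ≤ s.D := map_subtype_le _
  have hD2P : IsPGroup 2 ↥D2 := SD.2.map _
  have hD2card : Nat.card D2 = 2 ^ (Nat.card s.D).factorization 2 := by
    rw [hD2, card_map_of_injective (subtype_injective _)]
    exact SD.card_eq_multiplicity
  have hD2mem : ∀ c ∈ s.D, ∀ k : ℕ, c ^ 2 ^ k = 1 → c ∈ D2 := by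
    intro c hc k hk
    exact ⟨⟨c, hc⟩, mem_sylow_of_comm SD (n := k) (Subtype.ext hk), rfl⟩
  obtain ⟨nD, hnD⟩ := IsPGroup.iff_card.1 hD2P
  have hD2pow : ∀ c ∈ D2, c ^ 2 ^ nD = 1 := by
    intro c hc
    have := orderOf_dvd_natCard (⟨c, hc⟩ : ↥D2)
    rw [hnD] at this
    exact congrArg Subtype.val (orderOf_dvd_iff_pow_eq_one.1 this)
  obtain ⟨SL, hSL⟩ : ∃ SL : Sylow 2 ↥s.L2, ∀ d : Fin 2 → Kˣ, (∀ i, d i ∈ D2) → ∀ h : dg d ∈ s.L2, (⟨dg d, h⟩ : ↥s.L2) ∈ (SL : Subgroup ↥s.L2) := by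
    have h1 : IsPGroup 2 ↥((((Subgroup.pi Set.univ fun _ : Fin 2 => D2).map (dg : _ →* ((Fin 2 → K) ≃ₗ[K] (Fin 2 → K)))).subgroupOf s.L2)) := by
      rintro ⟨⟨x, hx⟩, ⟨d, hd, hdx⟩⟩
      refine ⟨nD, Subtype.ext (Subtype.ext ?_)⟩
      change x ^ 2 ^ nD = 1
      have hdx' : dg d = x := hdx
      rw [← hdx', ← map_pow]
      have : d ^ 2 ^ nD = 1 := funext fun i => hD2pow _ (hd i (Set.mem_univ i))
      rw [this, map_one]
    obtain ⟨SL, hSL⟩ := h1.exists_le_sylow
    exact ⟨SL, fun d hd h => hSL ⟨d, fun i _ => hd i, rfl⟩⟩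
  set P : Subgroup ((Fin 2 → K) ≃ₗ[K] (Fin 2 → K)) := (SL : Subgroup ↥s.L2).map s.L2.subtype with hP
  have hPle : P ≤ s.L2 := map_subtype_le _
  have hPP : IsPGroup 2 ↥P := SL.2.map _
  have hPcard : Nat.card P = 2 ^ (Nat.card s.L2).factorization 2 := by
    rw [hP, card_map_of_injective (subtype_injective _)]
    exact SL.card_eq_multiplicity
  have hPdg : ∀ d : Fin 2 → Kˣ, (∀ i, d i ∈ D2) → dg d ∈ P := by
    intro d hd
    exact ⟨⟨dg d, s.diag2 d fun i => hD2le (hd i)⟩, hSL d hd _, rfl⟩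
  obtain ⟨nP, hnP⟩ := IsPGroup.iff_card.1 hPP
  have hPpow : ∀ c ∈ P, c ^ 2 ^ nP = 1 := by
    intro c hc
    have := orderOf_dvd_natCard (⟨c, hc⟩ : ↥P)
    rw [hnP] at this
    exact congrArg Subtype.val (orderOf_dvd_iff_pow_eq_one.1 this)
  set SQ : Sylow 2 (Perm α) := default with hSQ
  set Q : Subgroup (Perm α) := (SQ : Subgroup (Perm α)) with hQ
  have hQcard : Nat.card Q = 2 ^ (Nat.card (Perm α)).factorization 2 := SQ.card_eq_multiplicity
  obtain ⟨nQ, hnQ⟩ := IsPGroup.iff_card.1 SQ.2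
  have hQpow : ∀ c ∈ Q, c ^ 2 ^ nQ = 1 := by
    intro c hc
    have := orderOf_dvd_natCard (⟨c, hc⟩ : ↥Q)
    rw [show Nat.card ↥Q = 2 ^ nQ from hnQ] at this
    exact congrArg Subtype.val (orderOf_dvd_iff_pow_eq_one.1 this)
  -- the Sylow subgroup of `L`
  have hRL : R (β := β) P D2 Q ≤ s.L := by
    rintro _ ⟨p, π, hπ, h1, h2, rfl⟩
    exact s.L.mul_mem (s.blk p (fun i => hPle (h1 i)) fun j => hD2le (h2 j)) (s.perm _)
  have hRcard : Nat.card ↥(R (β := β) P D2 Q) = 2 ^ (Nat.card s.L).factorization 2 := by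
    rw [card_R, hPcard, hD2card, hQcard, s.h4, ← pow_mul, ← pow_mul, ← pow_add, ← pow_add]
    congr 1
    ring
  have hRP : IsPGroup 2 ↥(R (β := β) P D2 Q) := IsPGroup.of_card hRcard
  have hRsub : Nat.card ↥((R (β := β) P D2 Q).subgroupOf s.L) = 2 ^ (Nat.card s.L).factorization 2 := by
    rw [← hRcard]
    exact Nat.card_congr (subgroupOfEquivOfLe hRL).toEquiv
  let SR : Sylow 2 ↥s.L := Sylow.ofCard _ hRsub
  have hSR : (SR : Subgroup ↥s.L) = (R (β := β) P D2 Q).subgroupOf s.L := rfl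
  -- conjugate into it
  obtain ⟨⟨k, hk⟩, hkg⟩ := exists_conj_le SR (isPGroup_zpowers (x := (⟨g, (s.mem_Γ.1 hg).1⟩ : ↥s.L)) (n := n) (Subtype.ext hn))
  have h1 := hkg _ (mem_zpowers _)
  rw [hSR, mem_subgroupOf] at h1
  change k * g * k⁻¹ ∈ R P D2 Q at h1
  refine CC.of_conj hk ?_
  have hΓ := s.conj_mem hk hg
  set h := k * g * k⁻¹ with hh
  obtain ⟨p, π, hπ, hp1, hp2, hpe⟩ := h1
  have hR2 : IsPGroup 2 ↥(R (β := β) P D2 Q ⊓ s.Γ) := hRP.to_le inf_le_left
  set T := s.ccSub ψ hA (R (β := β) P D2 Q ⊓ s.Γ) inf_le_right hR2 with hT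
  have hbpT : bp π ∈ T := by
    refine ⟨⟨⟨1, π, hπ, fun i => P.one_mem, fun j => D2.one_mem, by simp⟩, s.mem_Γ.2 ⟨s.perm _, det_bp π⟩⟩, ?_⟩
    exact CC.bp_of hA htt (hQpow π hπ)
  have hJdet : LinearEquiv.det (J p) = 1 := by
    have := (s.mem_Γ.1 hΓ).2
    rwa [hpe, map_mul, det_bp, mul_one] at this
  suffices hJ : J p ∈ T by
    have := T.mul_mem hJ hbpT
    rw [← hpe] at this
    exact this.2
  -- the determinants of the blocks
  set e : α → Kˣ := fun i => LinearEquiv.det (p.1 i) with he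
  have heD : ∀ i, e i ∈ D2 := by
    intro i
    refine hD2mem _ (s.det2_mem _ (hPle (hp1 i))) nP ?_
    rw [he, ← map_pow, hPpow _ (hp1 i), map_one]
  set de : α → ((Fin 2 → K) ≃ₗ[K] (Fin 2 → K)) := fun i => dg (Pi.mulSingle 1 (e i)) with hde
  have hdeP : ∀ i, de i ∈ P := fun i => hPdg _ fun j => by
    rw [Pi.mulSingle_apply]; split_ifs
    · exact heD i
    · exact D2.one_mem
  have hded : ∀ i, LinearEquiv.det (de i) = e i := by
    intro i
    rw [hde, det_dg, Finset.prod_pi_mulSingle']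
    simp
  set b : α → ((Fin 2 → K) ≃ₗ[K] (Fin 2 → K)) := fun i => p.1 i * (de i)⁻¹ with hb
  have hbP : ∀ i, b i ∈ P := fun i => P.mul_mem (hp1 i) (P.inv_mem (hdeP i))
  have hbd : ∀ i, LinearEquiv.det (b i) = 1 := by
    intro i
    rw [hb, map_mul, map_inv, hded, mul_inv_cancel]
  have hsplit : J p = J (b, 1) * J (de, p.2) := by
    rw [← map_mul]
    congr 1
    ext1
    · funext i
      change p.1 i = b i * de i
      rw [hb, inv_mul_cancel_right]
    · change p.2 = 1 * p.2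
      rw [one_mul]
  set δ : Ix α β → Kˣ := Sum.elim (fun x => if x.2 = 1 then e x.1 else 1) p.2 with hδ
  have hJdg : J (de, p.2) = dg δ := by
    ext v (⟨i, k⟩ | j)
    · rw [J_inl, dg_apply, dg_apply]
      simp [hδ, Pi.mulSingle_apply]
    · rw [J_inr, dg_apply]
      simp [hδ]
  have hb1 : LinearEquiv.det (J (b, (1 : β → Kˣ))) = 1 := by
    rw [det_J]
    change (∏ i, LinearEquiv.det (b i)) * ∏ j : β, (1 : Kˣ) = 1
    rw [Finset.prod_congr rfl fun i _ => hbd i]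
    simp
  have hδ1 : ∏ i, δ i = 1 := by
    rw [← det_dg, ← hJdg]
    have := hJdet
    rwa [hsplit, map_mul, hb1, one_mul] at this
  have hδD : ∀ i, δ i ∈ D2 := by
    rintro (⟨i, k⟩ | j)
    · change (if k = 1 then e i else 1) ∈ D2
      split_ifs
      · exact heD i
      · exact D2.one_mem
    · exact hp2 j
  have hfinD2 : Finite D2 := inferInstance
  have hJ2 : J (de, p.2) ∈ T := by
    refine ⟨⟨⟨(de, p.2), 1, Q.one_mem, hdeP, hp2, by rw [map_one, mul_one]⟩, s.mem_Γ.2 ⟨?_, ?_⟩⟩, ?_⟩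
    · exact s.blk _ (fun i => hPle (hdeP i)) fun j => hD2le (hp2 j)
    · rw [hJdg, det_dg, hδ1]
    · rw [hJdg]
      exact CC.dg_of hA hD2le hD2P (fun i j hij c hc => CC.diag_of hex hA htt (hD2le hc) (hD2pow c hc) hij) hδD hδ1
  rw [hsplit]
  refine T.mul_mem ?_ hJ2
  let φ : (α → (Fin 2 → K) ≃ₗ[K] (Fin 2 → K)) →* ((Ix α β → K) ≃ₗ[K] (Ix α β → K)) := J.comp (MonoidHom.inl _ _)
  change b ∈ T.comap φ
  refine pi_mem_of_mulSingle_mem b fun i => ?_
  change J (Pi.mulSingle i (b i), 1) ∈ T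
  have hcc := CC.block (s := s) (ψ := ψ) hex hA htt i (hPle (hbP i)) (hbd i) (hPpow _ (hbP i))
  refine ⟨⟨⟨(Pi.mulSingle i (b i), 1), 1, Q.one_mem, fun j => ?_, fun j => D2.one_mem, by rw [map_one, mul_one]⟩, hcc.1⟩, hcc⟩
  change (Pi.mulSingle i (b i) : α → _) j ∈ P
  rw [Pi.mulSingle_apply]; split_ifs
  · exact hbP i
  · exact P.one_mem

/-- **Main theorem.** -/
theorem closed [Finite K] [Nonempty α] (s : Sys K α β) (hex : Nontrivial α ∨ Nonempty β) (ψ : ↥s.Γ →* G)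
    (hψ : Function.Surjective ψ)
    (hker : ∀ g : ↥s.Γ, ψ g = 1 ↔ ∃ c : Kˣ, (g : (Ix α β → K) ≃ₗ[K] (Ix α β → K)) = sc c) : ClosedRow G := by
  have hp : Fact (Nat.Prime 2) := ⟨Nat.prime_two⟩
  have hf1 : Finite ((Ix α β → K) ≃ₗ[K] (Ix α β → K)) := Finite.of_injective _ DFunLike.coe_injective
  intro S A hA
  by_cases hne : A = ⊥
  · exact Or.inl hne
  refine Or.inr (eq_of_cl hA fun x hx => ?_)
  have htt : ∀ i j : Ix α β, i ≠ j → s.CC ψ A (tt i j) := fun i j hij => cc_tt hψ hker hA hne hij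
  let T : Sylow 2 ↥s.Γ := default
  obtain ⟨g, hg⟩ := MulAction.exists_smul_eq G S (T.mapSurjective hψ)
  have h1 : g * x * g⁻¹ ∈ (T.mapSurjective hψ : Subgroup G) := by
    rw [← hg, Sylow.coe_subgroup_smul]
    exact ⟨x, hx, rfl⟩
  rw [Sylow.coe_mapSurjective] at h1
  obtain ⟨t, ht, hte⟩ := h1
  refine Cl.of_conj (g := g) ?_
  rw [← hte]
  obtain ⟨n, hn⟩ := T.2 ⟨t, ht⟩
  have hn' : (t : (Ix α β → K) ≃ₗ[K] (Ix α β → K)) ^ 2 ^ n = 1 := congrArg (fun y => ((y : ↥(T : Subgroup ↥s.Γ)) : ↥s.Γ).1) hn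
  obtain ⟨ht', hcl⟩ := CC.all hex hA htt t.2 hn'
  have := hcl 1
  rwa [tw_one] at this

end Sys

end Cfsg.Agent.FooteOdd

end

-- merged: Cfsg.Agent.FooteOdd.PSL
section

/-!
# `ClosedRow` for `PSL_n(q)`, `q` odd, `n ≥ 3` (helper63, S1252)
-/

set_option autoImplicit false
set_option linter.unusedVariables false
set_option linter.unusedSectionVars false

namespace Cfsg.Agent.FooteOdd

open Equiv Subgroup Cfsg Module
open Matrix (SpecialLinearGroup ProjectiveSpecialLinearGroup)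

variable {K : Type*} [Field K]

/-- linear automorphisms and invertible matrices -/
noncomputable def glEquiv {ι : Type*} [Fintype ι] [DecidableEq ι] : Matrix.GeneralLinearGroup ι K ≃* ((ι → K) ≃ₗ[K] (ι → K)) :=
  Matrix.GeneralLinearGroup.toLin.trans (LinearMap.GeneralLinearGroup.generalLinearEquiv K (ι → K))

theorem glEquiv_apply {ι : Type*} [Fintype ι] [DecidableEq ι] (g : Matrix.GeneralLinearGroup ι K) (v : ι → K) :
    glEquiv g v = (g : Matrix ι ι K).mulVec v := rfl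

theorem card_gl {ι : Type*} [Fintype ι] [DecidableEq ι] [Fintype K] {n : ℕ} (hn : Fintype.card ι = n) :
    Nat.card ((ι → K) ≃ₗ[K] (ι → K)) = ∏ i : Fin n, (Fintype.card K ^ n - Fintype.card K ^ (i : ℕ)) := by
  rw [← Matrix.card_GL_field (𝔽 := K) n]
  have e : ι ≃ Fin n := Fintype.equivFinOfCardEq hn
  exact Nat.card_congr ((cjE (LinearEquiv.funCongrLeft K K e.symm)).trans glEquiv.symm).toEquiv

theorem two_of_odd [Fintype K] (hq : Odd (Fintype.card K)) : (2 : K) ≠ 0 := by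
  intro h
  have h2 : ringChar K = 2 := by
    have h3 : ((2 : ℕ) : K) = 0 := by exact_mod_cast h
    have h4 := (ringChar.spec K 2).1 h3
    have h5 : (ringChar K).Prime := CharP.char_is_prime K _
    exact (Nat.prime_dvd_prime_iff_eq h5 Nat.prime_two).1 h4
  have := FiniteField.even_card_of_char_two h2
  rw [Nat.odd_iff] at hq
  omega

theorem odd_of_two [Fintype K] (two : (2 : K) ≠ 0) : Odd (Fintype.card K) := by
  rw [Nat.odd_iff]
  refine FiniteField.odd_card_of_char_ne_two ?_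
  intro h
  have : CharP K 2 := by rw [← h]; exact ringChar.charP K
  exact two CharTwo.two_eq_zero

/-- the general linear group -/
noncomputable def glSys (K : Type*) [Field K] [Fintype K] (two : (2 : K) ≠ 0) (m r : ℕ) [Nonempty (Fin m)] (hr : r ≤ 1) :
    Sys K (Fin m) (Fin r) where
  L := ⊤
  L2 := ⊤
  D := ⊤
  neg := mem_top _
  diag _ _ := mem_top _
  perm _ := mem_top _
  blk _ _ _ := mem_top _
  diag2 _ _ := mem_top _
  det_mem _ _ := mem_top _
  det2_mem _ _ := mem_top _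
  h1 t _ ht := by
    obtain ⟨k, ε, h1, h2⟩ := gl_h1 two t ht
    exact ⟨k, mem_top _, ε, h1, h2⟩
  h2 z _ _ hc hns := by
    obtain ⟨c, hc⟩ := hc
    obtain ⟨w, hw, k, i, j, hij, h1, h2⟩ := gl_h2 two z hc hns
    exact ⟨w, mem_top _, hw, k, mem_top _, i, j, hij, h1, h2⟩
  h3 x _ hx _ := by
    obtain ⟨ρ, h1, h2, h3⟩ := gl_h3 two hx
    exact ⟨ρ, mem_top _, h1, h2, h3⟩
  h4 := by
    have hodd := odd_of_two two
    have h1 : 1 < Fintype.card K := Fintype.one_lt_card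
    rw [card_top, card_top, card_top, card_gl (n := 2 * m + r) (by simp [mul_comm]), card_gl (n := 2) (by simp),
      Fintype.card_fin, Fintype.card_fin]
    have e1 := Num.v2_gl hodd h1 m r hr
    have e2 := Num.v2_gl hodd h1 1 0 (by norm_num)
    simp only [Num.v2] at e1 e2
    rw [e1]
    have e3 : (∏ i : Fin 2, (Fintype.card K ^ 2 - Fintype.card K ^ (i : ℕ))).factorization 2 =
        (Fintype.card K - 1).factorization 2 + (Fintype.card K ^ 2 - 1).factorization 2 := by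
      have := e2
      simp only [mul_one, add_zero, one_mul, Nat.factorial_one, Nat.factorization_one, Finsupp.coe_zero, Pi.zero_apply,
        zero_mul] at this
      exact this
    rw [e3, Nat.card_perm, Nat.card_eq_fintype_card (α := Fin m), Fintype.card_fin, Nat.card_units,
      Nat.card_eq_fintype_card (α := K)]

/-- a linear automorphism of determinant one as a matrix -/
noncomputable def toSL {ι : Type*} [Fintype ι] [DecidableEq ι] :
    ↥(LinearEquiv.det : ((ι → K) ≃ₗ[K] (ι → K)) →* Kˣ).ker →* SpecialLinearGroup ι K where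
  toFun g := ⟨LinearMap.toMatrix' (g : (ι → K) ≃ₗ[K] (ι → K)).toLinearMap, by
    rw [LinearMap.det_toMatrix', ← LinearEquiv.coe_det, MonoidHom.mem_ker.1 g.2, Units.val_one]⟩
  map_one' := Subtype.ext LinearMap.toMatrix'_one
  map_mul' g h := Subtype.ext (LinearMap.toMatrix'_mul _ _)

theorem toLin'_toSL {ι : Type*} [Fintype ι] [DecidableEq ι] (g : ↥(LinearEquiv.det : ((ι → K) ≃ₗ[K] (ι → K)) →* Kˣ).ker) :
    Matrix.toLin' (toSL g : Matrix ι ι K) = (g : (ι → K) ≃ₗ[K] (ι → K)).toLinearMap := Matrix.toLin'_toMatrix' _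

theorem toSL_surjective {ι : Type*} [Fintype ι] [DecidableEq ι] : Function.Surjective (toSL (K := K) (ι := ι)) := by
  intro A
  refine ⟨⟨SpecialLinearGroup.toLin' A, ?_⟩, ?_⟩
  · rw [MonoidHom.mem_ker]
    ext
    rw [LinearEquiv.coe_det, SpecialLinearGroup.toLin'_to_linearMap, LinearMap.det_toLin']
    exact A.2
  · apply Subtype.ext
    change LinearMap.toMatrix' (SpecialLinearGroup.toLin' A).toLinearMap = A
    rw [SpecialLinearGroup.toLin'_to_linearMap, LinearMap.toMatrix'_toLin']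

theorem toSL_mem_center {ι : Type*} [Fintype ι] [DecidableEq ι] [Nonempty ι]
    (g : ↥(LinearEquiv.det : ((ι → K) ≃ₗ[K] (ι → K)) →* Kˣ).ker) :
    toSL g ∈ center (SpecialLinearGroup ι K) ↔ ∃ c : Kˣ, (g : (ι → K) ≃ₗ[K] (ι → K)) = sc c := by
  rw [Matrix.SpecialLinearGroup.mem_center_iff]
  constructor
  · rintro ⟨r, hr, hr'⟩
    have hr0 : r ≠ 0 := by
      rintro rfl
      rw [zero_pow Fintype.card_ne_zero] at hr
      exact zero_ne_one hr
    refine ⟨Units.mk0 r hr0, ?_⟩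
    apply LinearEquiv.toLinearMap_injective
    rw [← toLin'_toSL, ← hr']
    refine LinearMap.ext fun v => ?_
    rw [Matrix.toLin'_apply, Matrix.scalar_apply, LinearEquiv.coe_coe, sc_apply]
    funext i
    rw [Matrix.mulVec_diagonal]
    rfl
  · rintro ⟨c, hc⟩
    refine ⟨c, ?_, ?_⟩
    · have h1 := MonoidHom.mem_ker.1 g.2
      rw [hc, sc, det_dg, Finset.prod_const, Finset.card_univ] at h1
      rw [← Units.val_pow_eq_pow_val, h1, Units.val_one]
    · apply Matrix.toLin'.injective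
      rw [toLin'_toSL, hc]
      refine LinearMap.ext fun v => ?_
      rw [Matrix.toLin'_apply, Matrix.scalar_apply, LinearEquiv.coe_coe, sc_apply]
      funext i
      rw [Matrix.mulVec_diagonal]
      rfl

/-- the reindexed map -/
noncomputable def reKer {ι κ : Type*} [Fintype ι] [DecidableEq ι] [Fintype κ] [DecidableEq κ] (e : ι ≃ κ) :
    ↥(LinearEquiv.det : ((ι → K) ≃ₗ[K] (ι → K)) →* Kˣ).ker →* ↥(LinearEquiv.det : ((κ → K) ≃ₗ[K] (κ → K)) →* Kˣ).ker where
  toFun g := ⟨cjE (LinearEquiv.funCongrLeft K K e.symm) g, by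
    rw [MonoidHom.mem_ker]
    ext
    rw [LinearEquiv.coe_det]
    have := LinearMap.det_conj (g : (ι → K) ≃ₗ[K] (ι → K)).toLinearMap (LinearEquiv.funCongrLeft K K e.symm)
    rw [← LinearEquiv.coe_det, MonoidHom.mem_ker.1 g.2] at this
    exact this⟩
  map_one' := Subtype.ext (map_one _)
  map_mul' g h := Subtype.ext (map_mul _ _ _)

theorem reKer_surjective {ι κ : Type*} [Fintype ι] [DecidableEq ι] [Fintype κ] [DecidableEq κ] (e : ι ≃ κ) :
    Function.Surjective (reKer (K := K) e) := by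
  intro g
  refine ⟨⟨(cjE (LinearEquiv.funCongrLeft K K e.symm)).symm g, ?_⟩, Subtype.ext (MulEquiv.apply_symm_apply _ _)⟩
  rw [MonoidHom.mem_ker]
  ext
  rw [LinearEquiv.coe_det]
  have := LinearMap.det_conj (g : (κ → K) ≃ₗ[K] (κ → K)).toLinearMap (LinearEquiv.funCongrLeft K K e.symm).symm
  rw [← LinearEquiv.coe_det, MonoidHom.mem_ker.1 g.2] at this
  exact this

theorem reKer_scalar {ι κ : Type*} [Fintype ι] [DecidableEq ι] [Fintype κ] [DecidableEq κ] (e : ι ≃ κ)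
    (g : ↥(LinearEquiv.det : ((ι → K) ≃ₗ[K] (ι → K)) →* Kˣ).ker) :
    (∃ c : Kˣ, (reKer e g : (κ → K) ≃ₗ[K] (κ → K)) = sc c) ↔ ∃ c : Kˣ, (g : (ι → K) ≃ₗ[K] (ι → K)) = sc c := by
  have h : ∀ c : Kˣ, cjE (LinearEquiv.funCongrLeft K K e.symm) (sc c) = sc c := by
    intro c
    ext v i
    rw [cjE_apply, sc_apply, sc_apply, map_smul, LinearEquiv.apply_symm_apply]
  constructor
  · rintro ⟨c, hc⟩
    refine ⟨c, (cjE (LinearEquiv.funCongrLeft K K e.symm)).injective ?_⟩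
    rw [h]
    exact hc
  · rintro ⟨c, hc⟩
    refine ⟨c, ?_⟩
    change cjE (LinearEquiv.funCongrLeft K K e.symm) (g : (ι → K) ≃ₗ[K] (ι → K)) = _
    rw [hc, h]

/-- **`PSL_n(q)`, `q` odd, `n ≥ 3`.** -/
theorem closedRow_psl {n : ℕ} (hn : 3 ≤ n) {F : Type*} [Field F] [Fintype F] (two : (2 : F) ≠ 0) :
    ClosedTwo.ClosedRow (ProjectiveSpecialLinearGroup (Fin n) F) := by
  have hm : Nonempty (Fin (n / 2)) := ⟨⟨0, by omega⟩⟩
  have hnn : Nonempty (Fin n) := ⟨⟨0, by omega⟩⟩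
  set s := glSys F two (n / 2) (n % 2) (by omega) with hs
  have hcard : Fintype.card (Ix (Fin (n / 2)) (Fin (n % 2))) = n := by
    simp; omega
  let e : Ix (Fin (n / 2)) (Fin (n % 2)) ≃ Fin n := Fintype.equivFinOfCardEq hcard
  have hΓ : s.Γ ≤ (LinearEquiv.det : _ →* Fˣ).ker := inf_le_right
  have hΓ' : ∀ g, g ∈ (LinearEquiv.det : ((Ix (Fin (n / 2)) (Fin (n % 2)) → F) ≃ₗ[F] _) →* Fˣ).ker → g ∈ s.Γ :=
    fun g hg => ⟨mem_top _, hg⟩
  let ψ : ↥s.Γ →* ProjectiveSpecialLinearGroup (Fin n) F :=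
    (QuotientGroup.mk' (center (SpecialLinearGroup (Fin n) F))).comp (toSL.comp ((reKer e).comp (inclusion hΓ)))
  refine s.closed ?_ ψ ?_ ?_
  · by_cases h : n % 2 = 0
    · left
      have : 2 ≤ n / 2 := by omega
      exact Fin.nontrivial_iff_two_le.2 this
    · right
      exact ⟨⟨0, by omega⟩⟩
  · intro x
    obtain ⟨A, rfl⟩ := QuotientGroup.mk'_surjective _ x
    obtain ⟨g, rfl⟩ := toSL_surjective A
    obtain ⟨h, rfl⟩ := reKer_surjective e g
    exact ⟨⟨h, hΓ' _ h.2⟩, rfl⟩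
  · intro g
    change (QuotientGroup.mk' (center (SpecialLinearGroup (Fin n) F))) (toSL (reKer e (inclusion hΓ g))) = 1 ↔ _
    rw [QuotientGroup.mk'_apply, QuotientGroup.eq_one_iff, toSL_mem_center, reKer_scalar]
    rfl

end Cfsg.Agent.FooteOdd

end

-- merged: Cfsg.Agent.FooteOdd.PSLTwo
section

/-!
# `ClosedRow` for `PSL_2(q)`, `q` odd (helper63, S1252)
-/

set_option autoImplicit false
set_option linter.unusedVariables false
set_option linter.unusedSectionVars false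

namespace Cfsg.Agent.FooteOdd

open Equiv Subgroup Cfsg Module
open Cfsg.Agent.ClosedTwo.Elem
open Matrix (SpecialLinearGroup ProjectiveSpecialLinearGroup)

variable {K : Type*} [Field K]

theorem exists_independent {ι : Type*} [Fintype ι] [DecidableEq ι] [Nonempty ι] {z : (ι → K) ≃ₗ[K] (ι → K)}
    (hns : ¬ ∃ c : Kˣ, z = sc c) : ∃ v, LinearIndependent K ![v, z v] := by
  obtain ⟨i⟩ := ‹Nonempty ι›
  by_contra hcon
  push Not at hcon
  obtain ⟨d, hd⟩ := LinearMap.exists_eq_smul_id_of_forall_notLinearIndependent (f := z.toLinearMap) hcon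
  have hd0 : d ≠ 0 := by
    rintro rfl
    rw [zero_smul] at hd
    have h1 : z (Pi.single i 1) = 0 := LinearMap.congr_fun hd _
    have h2 := congrFun (z.map_eq_zero_iff.1 h1) i
    simp at h2
  refine hns ⟨Units.mk0 d hd0, LinearEquiv.ext fun v => ?_⟩
  rw [sc_apply]
  exact LinearMap.congr_fun hd v

/-- the companion form of a non-scalar element of determinant one -/
theorem companion {x : (Fin 2 → K) ≃ₗ[K] (Fin 2 → K)} (hd : LinearEquiv.det x = 1) (hns : ¬ ∃ c : Kˣ, x = sc c) :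
    ∃ (k : (Fin 2 → K) ≃ₗ[K] (Fin 2 → K)) (τ : K), k * x * k⁻¹ = m2 0 (-1) 1 τ (by ring) := by
  obtain ⟨v, hv⟩ := exists_independent hns
  let b : Basis (Fin 2) K (Fin 2 → K) := basisOfLinearIndependentOfCardEqFinrank hv (by simp)
  obtain ⟨k, hk⟩ := exists_map_basis b
  have hb0 : b 0 = v := by simp [b]
  have hb1 : b 1 = x v := by simp [b]
  obtain ⟨x', hx'⟩ : ∃ x', x' = k * x * k⁻¹ := ⟨_, rfl⟩
  have hkk : ∀ u, k (k⁻¹ u) = u := fun u => by
    rw [← LinearEquiv.mul_apply, mul_inv_cancel]; rfl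
  have hx0 : x' (Pi.single 0 1) = Pi.single 1 1 := by
    rw [hx', LinearEquiv.mul_apply, LinearEquiv.mul_apply, hk, hb0, ← hb1, ← hk, hkk]
  have hdet : LinearEquiv.det x' = 1 := by
    rw [hx', map_mul, map_mul, hd, map_inv]
    simp
  have hx1 : x' (Pi.single 1 1) 0 = -1 := by
    have h1 : LinearMap.det (x' : (Fin 2 → K) →ₗ[K] (Fin 2 → K)) = 1 := by
      rw [← LinearEquiv.coe_det, hdet, Units.val_one]
    rw [← LinearMap.det_toMatrix', Matrix.det_fin_two] at h1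
    simp only [LinearMap.toMatrix'_apply, LinearEquiv.coe_coe] at h1
    have e0 : (fun j' : Fin 2 => if j' = 0 then (1 : K) else 0) = Pi.single 0 1 := by
      funext j; rw [Pi.single_apply]
    have e1 : (fun j' : Fin 2 => if j' = 1 then (1 : K) else 0) = Pi.single 1 1 := by
      funext j; rw [Pi.single_apply]
    simp only [e0, e1, hx0] at h1
    simp at h1
    linear_combination -h1
  refine ⟨k, x' (Pi.single 1 1) 1, ?_⟩
  rw [← hx']
  refine ext_single fun i => ?_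
  funext j
  rw [m2_apply]
  fin_cases i
  · change x' (Pi.single 0 1) j = _
    rw [hx0]
    fin_cases j <;> simp
  · change x' (Pi.single 1 1) j = _
    fin_cases j
    · simp [hx1]
    · simp

theorem m2_sq_of_trace (a b c : K) (h : a * (-a) - b * c = 1) : m2 a b c (-a) h * m2 a b c (-a) h = sc (-1) := by
  apply LinearEquiv.ext
  intro v
  rw [LinearEquiv.mul_apply, m2_apply, m2_apply, sc_apply]
  funext j
  fin_cases j
  · simp
    linear_combination (-v 0) * h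
  · simp
    linear_combination (-v 1) * h

theorem conj_std [Finite K] (two : (2 : K) ≠ 0) {y : (Fin 2 → K) ≃ₗ[K] (Fin 2 → K)} (hd : LinearEquiv.det y = 1)
    (hy : ∃ c : Kˣ, y * y = sc c) (hns : ¬ ∃ c : Kˣ, y = sc c) :
    ∃ k : (Fin 2 → K) ≃ₗ[K] (Fin 2 → K), LinearEquiv.det k = 1 ∧ k * y * k⁻¹ = m2 0 (-1) 1 0 (by ring) := by
  obtain ⟨k, τ, hk⟩ := companion hd hns
  have hτ : τ = 0 := by
    obtain ⟨c, hc⟩ := hy
    have h1 : (k * y * k⁻¹) * (k * y * k⁻¹) = sc c := by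
      have : (k * y * k⁻¹) * (k * y * k⁻¹) = k * (y * y) * k⁻¹ := by group
      rw [this, hc, ← sc_comm, mul_inv_cancel_right]
    rw [hk] at h1
    have h2 := congrFun (LinearEquiv.congr_fun h1 (Pi.single 0 1)) 1
    rw [LinearEquiv.mul_apply, m2_apply, m2_apply, sc_apply] at h2
    simpa using h2
  subst hτ
  obtain ⟨p, q, hpq⟩ := exists_norm_eq two (neg_ne_zero.2 (one_ne_zero (α := K))) ((LinearEquiv.det k)⁻¹ : Kˣ)
  -- the centralizer element
  have hne : p * p + q * q ≠ 0 := by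
    have h1 : p * p + q * q = ((LinearEquiv.det k)⁻¹ : Kˣ) := by linear_combination hpq
    rw [h1]
    exact Units.ne_zero _
  let C : Matrix (Fin 2) (Fin 2) K := !![p, -q; q, p]
  have hCd : C.det = p * p + q * q := by
    simp only [C, Matrix.det_fin_two_of]; ring
  let g : Matrix.GeneralLinearGroup (Fin 2) K := Matrix.GeneralLinearGroup.mkOfDetNeZero C (by rw [hCd]; exact hne)
  let c : (Fin 2 → K) ≃ₗ[K] (Fin 2 → K) := glEquiv g
  have hc : ∀ v, c v = ![p * v 0 - q * v 1, q * v 0 + p * v 1] := by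
    intro v
    change C.mulVec v = _
    funext j
    fin_cases j <;> simp [C, Matrix.mulVec, dotProduct, Fin.sum_univ_two, sub_eq_add_neg]
  have hcdet : LinearEquiv.det c = (LinearEquiv.det k)⁻¹ := by
    ext
    rw [LinearEquiv.coe_det]
    have h1 : (c : (Fin 2 → K) →ₗ[K] (Fin 2 → K)) = Matrix.toLin' C := rfl
    rw [h1, LinearMap.det_toLin', hCd]
    linear_combination hpq
  have hcomm : c * m2 0 (-1) 1 0 (by ring) = m2 0 (-1) 1 0 (by ring) * c := by
    apply LinearEquiv.ext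
    intro v
    rw [LinearEquiv.mul_apply, LinearEquiv.mul_apply, hc, m2_apply, m2_apply, hc]
    funext j
    fin_cases j
    · simp
      ring
    · simp
      ring
  refine ⟨c * k, ?_, ?_⟩
  · rw [map_mul, hcdet, inv_mul_cancel]
  · have : c * k * y * (c * k)⁻¹ = c * (k * y * k⁻¹) * c⁻¹ := by group
    rw [this, hk, hcomm, mul_inv_cancel_right]

/-- a 2-element of `SL_2` with trace `± 2` is a scalar -/
theorem trace_ne {τ : K} (two : (2 : K) ≠ 0) {n : ℕ}
    (hn : (m2 0 (-1) 1 τ (by ring) : (Fin 2 → K) ≃ₗ[K] (Fin 2 → K)) ^ 2 ^ n = 1) : τ * τ - 4 ≠ 0 := by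
  intro hτ
  -- `τ = 2 ε`
  set x : (Fin 2 → K) ≃ₗ[K] (Fin 2 → K) := m2 0 (-1) 1 τ (by ring) with hx
  obtain ⟨ε, hε, rfl⟩ : ∃ ε : K, ε * ε = 1 ∧ τ = 2 * ε := by
    refine ⟨τ / 2, ?_, by field_simp⟩
    field_simp
    linear_combination hτ
  -- powers
  have key : ∀ m : ℕ, ∀ v, (x ^ m) v = (ε ^ m) • v + ((m : K) * ε ^ (m + 1)) • (x v - ε • v) := by
    intro m
    induction m with
    | zero =>
      intro v
      simp
    | succ m ih =>
      intro v
      rw [pow_succ, LinearEquiv.mul_apply, ih]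
      have hxx : x (x v) = (2 * ε) • x v - v := by
        rw [hx, m2_apply, m2_apply]
        funext j
        fin_cases j
        · simp
          ring
        · simp
          ring
      rw [hxx]
      have e1 : ε ^ (m + 1 + 1) = ε ^ m := by rw [pow_succ, pow_succ, mul_assoc, hε, mul_one]
      rw [e1]
      push_cast
      funext j
      simp only [Pi.add_apply, Pi.sub_apply, Pi.smul_apply, smul_eq_mul]
      rw [pow_succ]
      linear_combination (ε ^ m * (m : K) * x v j) * hε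
  have h1 := congrFun (key (2 ^ n) (Pi.single 0 1)) 1
  rw [hn] at h1
  have h2 : x (Pi.single 0 1) 1 = 1 := by
    rw [hx, m2_apply]
    simp
  have h3 : (1 : (Fin 2 → K) ≃ₗ[K] (Fin 2 → K)) (Pi.single 0 1) = Pi.single 0 1 := rfl
  rw [h3] at h1
  simp only [Pi.add_apply, Pi.smul_apply, Pi.sub_apply, smul_eq_mul, h2] at h1
  simp at h1
  rcases h1 with h1 | h1
  · exact two h1.1
  · rw [h1] at hε
    simp at hε

/-- **`PSL_2(q)`, `q` odd.** -/
theorem closedRow_psl_two {F : Type*} [Field F] [Fintype F] (two : (2 : F) ≠ 0) :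
    ClosedTwo.ClosedRow (ProjectiveSpecialLinearGroup (Fin 2) F) := by
  have hp : Fact (Nat.Prime 2) := ⟨Nat.prime_two⟩
  have hfin : Finite ((Fin 2 → F) ≃ₗ[F] (Fin 2 → F)) := Finite.of_injective _ DFunLike.coe_injective
  have hfin2 : Finite (ProjectiveSpecialLinearGroup (Fin 2) F) := by
    have : Finite (SpecialLinearGroup (Fin 2) F) := inferInstance
    exact Finite.of_surjective (QuotientGroup.mk' (center (SpecialLinearGroup (Fin 2) F))) (QuotientGroup.mk'_surjective _)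
  let Γ := (LinearEquiv.det : ((Fin 2 → F) ≃ₗ[F] (Fin 2 → F)) →* Fˣ).ker
  let ψ : ↥Γ →* ProjectiveSpecialLinearGroup (Fin 2) F :=
    (QuotientGroup.mk' (center (SpecialLinearGroup (Fin 2) F))).comp toSL
  have hψ : Function.Surjective ψ := by
    intro x
    obtain ⟨A, rfl⟩ := QuotientGroup.mk'_surjective _ x
    obtain ⟨g, rfl⟩ := toSL_surjective A
    exact ⟨g, rfl⟩
  have hker : ∀ g : ↥Γ, ψ g = 1 ↔ ∃ c : Fˣ, (g : (Fin 2 → F) ≃ₗ[F] (Fin 2 → F)) = sc c := by
    intro g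
    change (QuotientGroup.mk' (center (SpecialLinearGroup (Fin 2) F))) (toSL g) = 1 ↔ _
    rw [QuotientGroup.mk'_apply, QuotientGroup.eq_one_iff, toSL_mem_center]
  intro S A hA
  by_cases hne : A = ⊥
  · exact Or.inl hne
  refine Or.inr (eq_of_cl hA fun x hx => ?_)
  have hscm : ∀ {g : (Fin 2 → F) ≃ₗ[F] (Fin 2 → F)}, g ∈ Γ ↔ LinearEquiv.det g = 1 := fun {g} => MonoidHom.mem_ker
  set st : (Fin 2 → F) ≃ₗ[F] (Fin 2 → F) := m2 0 (-1) 1 0 (by ring) with hst
  have hstΓ : st ∈ Γ := hscm.2 (det_m2 _ _ _ _ _)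
  -- the standard element
  have hcst : Cl A (ψ ⟨st, hstΓ⟩) := by
    obtain ⟨z, hzA, hz2, hz1⟩ := exists_involution hA hne
    obtain ⟨⟨g, hg⟩, rfl⟩ := hψ z
    have hsq : ∃ c : Fˣ, g * g = sc c := (hker (⟨g, hg⟩ * ⟨g, hg⟩)).1 (by rw [map_mul]; exact hz2)
    have hns : ¬ ∃ c : Fˣ, g = sc c := fun h => hz1 ((hker ⟨g, hg⟩).2 h)
    obtain ⟨k, hk, hkg⟩ := conj_std two (hscm.1 hg) hsq hns
    have h1 := (cl_of_mem hzA).conj (ψ ⟨k, hscm.2 hk⟩)
    rw [← map_inv, ← map_mul, ← map_mul] at h1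
    have h2 : (⟨k, hscm.2 hk⟩ : ↥Γ) * ⟨g, hg⟩ * (⟨k, hscm.2 hk⟩ : ↥Γ)⁻¹ = ⟨st, hstΓ⟩ := Subtype.ext hkg
    rwa [h2] at h1
  -- the elements of square `-1`
  have hcy : ∀ y (hy : y ∈ Γ), y * y = sc (-1) → Cl A (ψ ⟨y, hy⟩) := by
    intro y hy hyy
    have hns : ¬ ∃ c : Fˣ, y = sc c := by
      rintro ⟨c, rfl⟩
      have h1 := hscm.1 hy
      rw [sc, det_dg, Fin.prod_univ_two] at h1
      rw [← sc_mul] at hyy
      have h3 : (fun _ : Fin 2 => c * c) = fun _ => (-1 : Fˣ) := dg_injective hyy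
      have h4 : c * c = -1 := congrFun h3 0
      rw [h1] at h4
      have h5 := congrArg Units.val h4
      rw [Units.val_one, Units.val_neg, Units.val_one] at h5
      apply two
      linear_combination h5
    obtain ⟨k, hk, hkg⟩ := conj_std two (hscm.1 hy) ⟨-1, hyy⟩ hns
    refine Cl.of_conj (g := ψ ⟨k, hscm.2 hk⟩) ?_
    rw [← map_inv, ← map_mul, ← map_mul]
    have h2 : (⟨k, hscm.2 hk⟩ : ↥Γ) * ⟨y, hy⟩ * (⟨k, hscm.2 hk⟩ : ↥Γ)⁻¹ = ⟨st, hstΓ⟩ := Subtype.ext hkg
    rw [h2]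
    exact hcst
  -- lift
  let T : Sylow 2 ↥Γ := default
  obtain ⟨g, hg⟩ := MulAction.exists_smul_eq (ProjectiveSpecialLinearGroup (Fin 2) F) S (T.mapSurjective hψ)
  have h1 : g * x * g⁻¹ ∈ (T.mapSurjective hψ : Subgroup (ProjectiveSpecialLinearGroup (Fin 2) F)) := by
    rw [← hg, Sylow.coe_subgroup_smul]
    exact ⟨x, hx, rfl⟩
  rw [Sylow.coe_mapSurjective] at h1
  obtain ⟨⟨t, htΓ⟩, ht, hte⟩ := h1
  refine Cl.of_conj (g := g) ?_
  rw [← hte]
  obtain ⟨n, hn⟩ := T.2 ⟨⟨t, htΓ⟩, ht⟩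
  have hn' : t ^ 2 ^ n = 1 := congrArg (fun y => ((y : ↥(T : Subgroup ↥Γ)) : ↥Γ).1) hn
  clear hte hn ht hg hx
  by_cases hts : ∃ c : Fˣ, t = sc c
  · have : ψ ⟨t, htΓ⟩ = 1 := (hker ⟨t, htΓ⟩).2 hts
    rw [this]
    exact cl_one
  obtain ⟨k, τ, hk⟩ := companion (hscm.1 htΓ) hts
  have hkn : (m2 0 (-1) 1 τ (by ring) : (Fin 2 → F) ≃ₗ[F] (Fin 2 → F)) ^ 2 ^ n = 1 := by
    rw [← hk, conj_pow, hn', mul_one, mul_inv_cancel]
  have hτ := trace_ne two hkn
  -- the inverting element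
  have h4 : (4 : F) ≠ 0 := by
    have : (4 : F) = 2 * 2 := by norm_num
    rw [this]
    exact mul_ne_zero two two
  obtain ⟨p, q, hpq⟩ := exists_norm_eq two (c := (τ * τ - 4) / 4) (div_ne_zero hτ h4) (-1)
  have hpq' : p * p * 4 - (τ * τ - 4) * (q * q) = -4 := by
    field_simp at hpq
    linear_combination hpq
  -- `a = p - τ q / 2`, `b = q`
  obtain ⟨a, ha⟩ : ∃ a : F, 2 * a = 2 * p - τ * q := ⟨p - τ * q / 2, by field_simp⟩
  have hab : a * a + a * q * τ + q * q = -1 := by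
    have h5 : (2 * a) * (2 * a) + (2 * a) * (2 * q) * τ + 4 * (q * q) = -4 := by
      rw [ha]
      linear_combination hpq'
    apply mul_left_cancel₀ h4
    linear_combination h5
  set y' : (Fin 2 → F) ≃ₗ[F] (Fin 2 → F) := m2 q (a + q * τ) a (-q) (by linear_combination -hab) with hy'
  have hy2 : y' * y' = sc (-1) := m2_sq_of_trace _ _ _ _
  have hyx : y' * m2 0 (-1) 1 τ (by ring) = m2 (a + q * τ) (-q + τ * a + q * τ * τ) (-q) (-(a + q * τ)) (by linear_combination -hab) := by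
    apply LinearEquiv.ext
    intro v
    rw [LinearEquiv.mul_apply, hy', m2_apply, m2_apply, m2_apply]
    funext j
    fin_cases j
    · simp
      ring
    · simp
      ring
  have hyx2 : (y' * m2 0 (-1) 1 τ (by ring)) * (y' * m2 0 (-1) 1 τ (by ring)) = sc (-1) := by
    rw [hyx]
    exact m2_sq_of_trace _ _ _ _
  obtain ⟨y, hy⟩ : ∃ y, y = k⁻¹ * y' * k := ⟨_, rfl⟩
  have hyΓ : y ∈ Γ := by
    rw [hscm, hy, map_mul, map_mul, map_inv, hy', det_m2]
    simp
  have hyy : y * y = sc (-1) := by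
    have : y * y = k⁻¹ * (y' * y') * k := by rw [hy]; group
    rw [this, hy2, mul_assoc, sc_comm, ← mul_assoc, inv_mul_cancel, one_mul]
  have hyt : (y * t) * (y * t) = sc (-1) := by
    have : (y * t) * (y * t) = k⁻¹ * ((y' * (k * t * k⁻¹)) * (y' * (k * t * k⁻¹))) * k := by rw [hy]; group
    rw [this, hk, hyx2, mul_assoc, sc_comm, ← mul_assoc, inv_mul_cancel, one_mul]
  have hinv : y * t * y⁻¹ = t⁻¹ := by
    have hyi : y⁻¹ = y * sc (-1) := by
      rw [inv_eq_iff_mul_eq_one, ← mul_assoc, hyy, ← sc_mul]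
      have : ((-1 : Fˣ) * -1) = 1 := by simp
      rw [this, sc]
      exact map_one dg
    rw [hyi, eq_inv_iff_mul_eq_one]
    have : y * t * (y * sc (-1)) * t = (y * t * (y * t)) * sc (-1) := by
      rw [mul_assoc (y * t) (y * sc (-1)) t, mul_assoc y (sc (-1)) t, sc_comm, ← mul_assoc y t, ← mul_assoc]
    rw [this, hyt, ← sc_mul]
    have : ((-1 : Fˣ) * -1) = 1 := by simp
    rw [this, sc]
    exact map_one dg
  refine Cl.of_inverted hA (t := ψ ⟨y, hyΓ⟩) (k := n) ?_ ?_ ?_ (hcy y hyΓ hyy) ?_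
  · rw [← map_mul]
    exact (hker _).2 ⟨-1, hyy⟩
  · rw [← map_inv, ← map_inv, ← map_mul, ← map_mul]
    exact congrArg ψ (Subtype.ext hinv)
  · rw [← map_pow]
    have : (⟨t, htΓ⟩ : ↥Γ) ^ 2 ^ n = 1 := Subtype.ext hn'
    rw [this, map_one]
  · rw [← map_mul]
    exact hcy (y * t) (Γ.mul_mem hyΓ htΓ) hyt

/-- **`PSL_n(q)`, `q` odd.** -/
theorem closedRow_psl_all {n : ℕ} (hn : 2 ≤ n) {F : Type*} [Field F] [Fintype F] (two : (2 : F) ≠ 0) :
    ClosedTwo.ClosedRow (ProjectiveSpecialLinearGroup (Fin n) F) := by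
  rcases Nat.lt_or_ge n 3 with h | h
  · obtain rfl : n = 2 := by omega
    exact closedRow_psl_two two
  · exact closedRow_psl h two

end Cfsg.Agent.FooteOdd

end

-- merged: Cfsg.Agent.FooteOdd.Herm
section

/-!
# Hermitian forms on `ι → K` and the general unitary group (helper63, S1252)
-/

set_option autoImplicit false
set_option linter.unusedVariables false
set_option linter.unusedSectionVars false

namespace Cfsg.Agent.FooteOdd

open Equiv Subgroup Cfsg Module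
open Cfsg.Agent.LieClassical.GUOrder (frob frob_apply frob_frob)

variable {K : Type*} [Field K] [Fintype K] {q : ℕ}

/-- the Hermitian form, semilinear in the first variable -/
def hB (hF : Fintype.card K = q ^ 2) (ι : Type*) [Fintype ι] : (ι → K) →ₛₗ[frob hF] (ι → K) →ₗ[K] K :=
  LinearMap.mk₂'ₛₗ (frob hF) (RingHom.id K) (fun u v => ∑ i, frob hF (u i) * v i)
    (fun u u' v => by simp only [Pi.add_apply, map_add, add_mul, Finset.sum_add_distrib])
    (fun c u v => by simp only [Pi.smul_apply, smul_eq_mul, map_mul, Finset.mul_sum, mul_assoc])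
    (fun u v v' => by simp only [Pi.add_apply, mul_add, Finset.sum_add_distrib])
    (fun c u v => by
      simp only [Pi.smul_apply, smul_eq_mul, RingHom.id_apply, Finset.mul_sum]
      exact Finset.sum_congr rfl fun i _ => by ring)

variable (hF : Fintype.card K = q ^ 2) {ι : Type*} [Fintype ι]

theorem hB_apply (u v : ι → K) : hB hF ι u v = ∑ i, frob hF (u i) * v i := rfl

theorem hB_symm (u v : ι → K) : frob hF (hB hF ι u v) = hB hF ι v u := by
  rw [hB_apply, hB_apply, map_sum]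
  refine Finset.sum_congr rfl fun i _ => ?_
  rw [map_mul, frob_frob, mul_comm]

theorem hB_smul_left (c : K) (u v : ι → K) : hB hF ι (c • u) v = frob hF c * hB hF ι u v := by
  rw [map_smulₛₗ, LinearMap.smul_apply, smul_eq_mul]

theorem hB_smul_right (c : K) (u v : ι → K) : hB hF ι u (c • v) = c * hB hF ι u v := by
  rw [map_smul, smul_eq_mul]

theorem hB_add_left (u u' v : ι → K) : hB hF ι (u + u') v = hB hF ι u v + hB hF ι u' v := by
  rw [map_add, LinearMap.add_apply]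

theorem hB_add_right (u v v' : ι → K) : hB hF ι u (v + v') = hB hF ι u v + hB hF ι u v' := map_add _ _ _

theorem hB_sub_left (u u' v : ι → K) : hB hF ι (u - u') v = hB hF ι u v - hB hF ι u' v := by
  rw [map_sub, LinearMap.sub_apply]

theorem hB_sub_right (u v v' : ι → K) : hB hF ι u (v - v') = hB hF ι u v - hB hF ι u v' := map_sub _ _ _

theorem hB_single_left [DecidableEq ι] (i : ι) (v : ι → K) : hB hF ι (Pi.single i 1) v = v i := by
  rw [hB_apply, Finset.sum_eq_single i]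
  · simp
  · intro j _ hj
    simp [hj]
  · intro h
    exact absurd (Finset.mem_univ _) h

theorem hB_single_right [DecidableEq ι] (i : ι) (v : ι → K) : hB hF ι v (Pi.single i 1) = frob hF (v i) := by
  rw [← hB_symm, hB_single_left]

theorem hB_nondeg {v : ι → K} (h : ∀ u, hB hF ι u v = 0) : v = 0 := by
  classical
  funext i
  rw [← hB_single_left hF i v, h]
  rfl

theorem hB_nondeg' {v : ι → K} (h : ∀ u, hB hF ι v u = 0) : v = 0 := by
  refine hB_nondeg hF fun u => ?_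
  rw [← hB_symm, h, map_zero]

theorem frob_ne_id : frob hF ≠ RingHom.id K := by
  classical
  intro h
  have h2 := Cfsg.Agent.LieClassical.GUOrder.two_le hF
  have h1 : Fintype.card K ≤ q := by
    let P : Polynomial K := Polynomial.X ^ q - Polynomial.X
    have hP : P ≠ 0 := FiniteField.X_pow_card_sub_X_ne_zero K (by omega)
    have hdeg : P.natDegree = q := FiniteField.X_pow_card_sub_X_natDegree_eq K (by omega)
    have h3 : (Finset.univ : Finset K) ⊆ P.roots.toFinset := by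
      intro x _
      rw [Multiset.mem_toFinset, Polynomial.mem_roots hP, Polynomial.IsRoot.def]
      have h4 := RingHom.congr_fun h x
      rw [frob_apply, RingHom.id_apply] at h4
      simp [P, h4]
    calc Fintype.card K = (Finset.univ : Finset K).card := rfl
      _ ≤ P.roots.toFinset.card := Finset.card_le_card h3
      _ ≤ Multiset.card P.roots := Multiset.toFinset_card_le _
      _ ≤ P.natDegree := Polynomial.card_roots' P
      _ = q := hdeg
  rw [hF] at h1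
  nlinarith

/-- an orthonormal basis of a nondegenerate subspace -/
theorem exists_onb (U : Submodule K (ι → K)) (hU : ∀ x ∈ U, (∀ y ∈ U, hB hF ι x y = 0) → x = 0) :
    ∃ f : Fin (finrank K U) → (ι → K), (∀ i, f i ∈ U) ∧ ∀ i j, hB hF ι (f i) (f j) = if i = j then 1 else 0 := by
  let B : U →ₛₗ[frob hF] U →ₗ[K] K := (hB hF ι).domRestrict₁₂ U U
  have hS : B.IsSymm := ⟨fun x y => hB_symm hF _ _⟩
  have hN : B.SeparatingLeft := fun x hx => Subtype.ext (hU x x.2 fun y hy => hx ⟨y, hy⟩)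
  obtain ⟨b, hb⟩ := Cfsg.Agent.ClassicalGeometry.HermOrthonormal.exists_orthonormal_basis (frob_ne_id hF) (frob_frob hF) B hS hN
  exact ⟨fun i => b i, fun i => (b i).2, hb⟩

/-- the general unitary group -/
def gu (ι : Type*) [Fintype ι] : Subgroup ((ι → K) ≃ₗ[K] (ι → K)) where
  carrier := {g | ∀ u v, hB hF ι (g u) (g v) = hB hF ι u v}
  mul_mem' {a b} ha hb u v := by
    change hB hF ι (a (b u)) (a (b v)) = _
    rw [ha, hb]
  one_mem' u v := rfl
  inv_mem' {a} ha u v := by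
    have := ha (a⁻¹ u) (a⁻¹ v)
    have h : ∀ w, a (a⁻¹ w) = w := fun w => by
      rw [← LinearEquiv.mul_apply, mul_inv_cancel]; rfl
    rw [h, h] at this
    exact this.symm

theorem mem_gu {g : (ι → K) ≃ₗ[K] (ι → K)} : g ∈ gu hF ι ↔ ∀ u v, hB hF ι (g u) (g v) = hB hF ι u v := Iff.rfl

/-- an isometry from an orthonormal family -/
theorem exists_iso_of_onb [DecidableEq ι] (f : ι → (ι → K)) (hf : ∀ i j, hB hF ι (f i) (f j) = if i = j then 1 else 0) :
    ∃ k ∈ gu hF ι, ∀ i, k⁻¹ (Pi.single i 1) = f i := by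
  let F : (ι → K) →ₗ[K] (ι → K) := Fintype.linearCombination K f
  have hFa : ∀ x, F x = ∑ i, x i • f i := fun x => Fintype.linearCombination_apply K f x
  have hiso : ∀ x y, hB hF ι (F x) (F y) = hB hF ι x y := by
    intro x y
    rw [hFa, hFa, map_sum (hB hF ι), LinearMap.sum_apply, hB_apply]
    refine Finset.sum_congr rfl fun i _ => ?_
    rw [map_sum, Finset.sum_eq_single i]
    · rw [hB_smul_left, hB_smul_right, hf, if_pos rfl, mul_one]
    · intro j _ hj
      rw [hB_smul_left, hB_smul_right, hf, if_neg (Ne.symm hj), mul_zero, mul_zero]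
    · intro h
      exact absurd (Finset.mem_univ _) h
  have hinj : Function.Injective F := by
    rw [injective_iff_map_eq_zero]
    intro x hx
    refine hB_nondeg' hF fun y => ?_
    rw [← hiso, hx, map_zero, LinearMap.zero_apply]
  let e : (ι → K) ≃ₗ[K] (ι → K) := LinearEquiv.ofInjectiveEndo F hinj
  have he : ∀ x, e x = F x := fun x => rfl
  have hmem : e ∈ gu hF ι := fun u v => by rw [he, he, hiso]
  refine ⟨e⁻¹, (gu hF ι).inv_mem hmem, fun i => ?_⟩
  rw [inv_inv, he, hFa, Finset.sum_eq_single i]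
  · simp
  · intro j _ hj
    simp [hj]
  · intro h
    exact absurd (Finset.mem_univ _) h

/-- two orthogonal families -/
theorem exists_iso_of_two [DecidableEq ι] {κ1 κ2 : Type*} [Fintype κ1] [Fintype κ2] [DecidableEq κ1] [DecidableEq κ2] (e : ι ≃ κ1 ⊕ κ2)
    (f1 : κ1 → (ι → K)) (f2 : κ2 → (ι → K)) (h1 : ∀ i j, hB hF ι (f1 i) (f1 j) = if i = j then 1 else 0)
    (h2 : ∀ i j, hB hF ι (f2 i) (f2 j) = if i = j then 1 else 0) (h12 : ∀ i j, hB hF ι (f1 i) (f2 j) = 0) :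
    ∃ k ∈ gu hF ι, ∀ i, k⁻¹ (Pi.single i 1) = Sum.elim f1 f2 (e i) := by
  refine exists_iso_of_onb hF _ fun i j => ?_
  have h21 : ∀ i j, hB hF ι (f2 i) (f1 j) = 0 := fun i j => by rw [← hB_symm, h12, map_zero]
  have key : ∀ x y, hB hF ι (Sum.elim f1 f2 x) (Sum.elim f1 f2 y) = if x = y then 1 else 0 := by
    rintro (x | x) (y | y)
    · simp [h1]
    · simp [h12]
    · simp [h21]
    · simp [h2]
  rw [key]
  simp [e.injective.eq_iff]

theorem gu_h1 [DecidableEq ι] (two : (2 : K) ≠ 0) (t : (ι → K) ≃ₗ[K] (ι → K)) (htU : t ∈ gu hF ι) (ht : t * t = 1) :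
    ∃ k ∈ gu hF ι, ∃ ε : ι → Kˣ, (∀ i, ε i = 1 ∨ ε i = -1) ∧ k * t * k⁻¹ = dg ε := by
  classical
  have hc := isCompl_eig two ht
  set U1 := LinearMap.ker (t.toLinearMap - LinearMap.id) with hU1
  set U2 := LinearMap.ker (t.toLinearMap + LinearMap.id) with hU2
  have m1 : ∀ x, x ∈ U1 ↔ t x = x := by
    intro x
    rw [hU1, LinearMap.mem_ker]
    simp only [LinearMap.sub_apply, LinearMap.id_apply, LinearEquiv.coe_coe]
    exact sub_eq_zero
  have m2 : ∀ x, x ∈ U2 ↔ t x = -x := by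
    intro x
    rw [hU2, LinearMap.mem_ker]
    simp only [LinearMap.add_apply, LinearMap.id_apply, LinearEquiv.coe_coe]
    exact add_eq_zero_iff_eq_neg
  have h12 : ∀ x ∈ U1, ∀ y ∈ U2, hB hF ι x y = 0 := by
    intro x hx y hy
    have h := htU x y
    rw [(m1 x).1 hx, (m2 y).1 hy, map_neg] at h
    have h3 : (2 : K) * hB hF ι x y = 0 := by linear_combination -h
    exact (mul_eq_zero.1 h3).resolve_left two
  have hsup : ∀ y, ∃ y1 ∈ U1, ∃ y2 ∈ U2, y1 + y2 = y := fun y =>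
    Submodule.mem_sup.1 (show y ∈ U1 ⊔ U2 by rw [hc.sup_eq_top]; trivial)
  have n1 : ∀ x ∈ U1, (∀ y ∈ U1, hB hF ι x y = 0) → x = 0 := by
    intro x hx h
    refine hB_nondeg' hF fun y => ?_
    obtain ⟨y1, hy1, y2, hy2, rfl⟩ := hsup y
    rw [map_add, h y1 hy1, h12 x hx y2 hy2, add_zero]
  have n2 : ∀ x ∈ U2, (∀ y ∈ U2, hB hF ι x y = 0) → x = 0 := by
    intro x hx h
    refine hB_nondeg' hF fun y => ?_
    obtain ⟨y1, hy1, y2, hy2, rfl⟩ := hsup y
    rw [map_add, h y2 hy2, ← hB_symm, h12 y1 hy1 x hx, map_zero, add_zero]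
  obtain ⟨f1, hf1, hf1'⟩ := exists_onb hF U1 n1
  obtain ⟨f2, hf2, hf2'⟩ := exists_onb hF U2 n2
  have hfin : finrank K U1 + finrank K U2 = Fintype.card ι := by
    rw [Submodule.finrank_add_eq_of_isCompl hc, Module.finrank_fintype_fun_eq_card]
  have e : ι ≃ Fin (finrank K U1) ⊕ Fin (finrank K U2) := Fintype.equivOfCardEq (by simp [hfin])
  obtain ⟨k, hk, hki⟩ := exists_iso_of_two hF e f1 f2 hf1' hf2' fun i j => h12 _ (hf1 i) _ (hf2 j)
  refine ⟨k, hk, fun i => Sum.elim (fun _ => 1) (fun _ => -1) (e i), fun i => ?_, conj_eq_dg fun i => ?_⟩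
  · dsimp only
    rcases e i with x | x
    · exact Or.inl rfl
    · exact Or.inr rfl
  · rw [hki]
    rcases e i with x | x
    · change t (f1 x) = ((1 : Kˣ) : K) • f1 x
      rw [(m1 _).1 (hf1 x), Units.val_one, one_smul]
    · change t (f2 x) = ((-1 : Kˣ) : K) • f2 x
      rw [(m2 _).1 (hf2 x), Units.val_neg, Units.val_one, neg_one_smul]

/-- diagonal isometries -/
theorem dg_mem_gu {d : ι → Kˣ} (hd : ∀ i, d i ^ (q + 1) = 1) : dg d ∈ gu hF ι := by
  intro u v
  rw [hB_apply, hB_apply]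
  refine Finset.sum_congr rfl fun i _ => ?_
  rw [dg_apply, dg_apply, map_mul, frob_apply hF (d i : K)]
  have h : (d i : K) ^ q * (d i : K) = 1 := by
    rw [← pow_succ, ← Units.val_pow_eq_pow_val, hd, Units.val_one]
  linear_combination (frob hF (u i) * v i) * h

theorem pm_mem_gu (σ : Perm ι) : pm σ ∈ gu hF ι := by
  intro u v
  rw [hB_apply, hB_apply]
  simp only [pm_apply]
  exact Equiv.sum_comp σ⁻¹ (fun i => frob hF (u i) * v i)

theorem J_mem_gu {α β : Type*} [Fintype α] [Fintype β] {p : (α → (Fin 2 → K) ≃ₗ[K] (Fin 2 → K)) × (β → Kˣ)}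
    (h1 : ∀ i, p.1 i ∈ gu hF (Fin 2)) (h2 : ∀ j, p.2 j ^ (q + 1) = 1) : J p ∈ gu hF (Ix α β) := by
  have key : ∀ u v : Ix α β → K, hB hF (Ix α β) u v =
      (∑ i, hB hF (Fin 2) (fun s => u (Sum.inl (i, s))) (fun s => v (Sum.inl (i, s)))) +
        ∑ j, frob hF (u (Sum.inr j)) * v (Sum.inr j) := by
    intro u v
    rw [hB_apply, Fintype.sum_sum_type, Fintype.sum_prod_type]
    rfl
  intro u v
  rw [key, key]
  congr 1
  · refine Finset.sum_congr rfl fun i _ => ?_
    exact h1 i _ _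
  · refine Finset.sum_congr rfl fun j _ => ?_
    rw [J_inr, J_inr, map_mul, frob_apply hF (p.2 j : K)]
    have h : (p.2 j : K) ^ q * (p.2 j : K) = 1 := by
      rw [← pow_succ, ← Units.val_pow_eq_pow_val, h2, Units.val_one]
    linear_combination (frob hF (u (Sum.inr j)) * v (Sum.inr j)) * h

end Cfsg.Agent.FooteOdd

end

-- merged: Cfsg.Agent.FooteOdd.GU
section

/-!
# The instance of `Sys` for the general unitary group: steps 2 and 3 (helper63, S1252)
-/

set_option autoImplicit false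
set_option linter.unusedVariables false
set_option linter.unusedSectionVars false

namespace Cfsg.Agent.FooteOdd

open Equiv Subgroup Cfsg Module
open Cfsg.Agent.LieClassical.GUOrder (frob frob_apply frob_frob two_le)

variable {K : Type*} [Field K] [Fintype K] {q : ℕ} (hF : Fintype.card K = q ^ 2)

theorem odd_q (hF : Fintype.card K = q ^ 2) (two : (2 : K) ≠ 0) : Odd q := by
  have := odd_of_two two
  rw [hF] at this
  exact (Nat.odd_pow_iff (by norm_num)).1 this

/-- elements of norm one are squares -/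
theorem exists_sqrt (two : (2 : K) ≠ 0) {c : K} (hc : frob hF c * c = 1) : ∃ μ : K, μ * μ = c := by
  have hodd := odd_q hF two
  have hc0 : c ≠ 0 := by
    rintro rfl
    simp at hc
  have hch : ringChar K ≠ 2 := by
    intro h
    have : CharP K 2 := by rw [← h]; exact ringChar.charP K
    exact two CharTwo.two_eq_zero
  have h1 : c ^ (q + 1) = 1 := by rw [pow_succ]; exact hc
  have h2 : c ^ (Fintype.card K / 2) = 1 := by
    obtain ⟨r, hr⟩ := hodd
    have : Fintype.card K / 2 = (q + 1) * r := by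
      rw [hF, hr]
      have : (2 * r + 1) ^ 2 = 2 * ((2 * r + 1 + 1) * r) + 1 := by ring
      omega
    rw [this, pow_mul, h1, one_pow]
  obtain ⟨μ, hμ⟩ := (FiniteField.isSquare_iff hch hc0).2 h2
  exact ⟨μ, hμ.symm⟩

/-- a nonzero element with `σ s = - s` -/
theorem exists_skew : ∃ s : K, s ≠ 0 ∧ frob hF s = -s := by
  obtain ⟨x, hx⟩ : ∃ x, frob hF x ≠ x := by
    by_contra hcon
    push Not at hcon
    exact frob_ne_id hF (RingHom.ext hcon)
  refine ⟨frob hF x - x, sub_ne_zero.2 hx, ?_⟩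
  rw [map_sub, frob_frob]
  ring

/-- the vector `u` -/
theorem exists_u {ι : Type*} [Fintype ι] [DecidableEq ι] (two : (2 : K) ≠ 0) {z : (ι → K) ≃ₗ[K] (ι → K)} (hz : z ∈ gu hF ι)
    {μ : K} (hμ0 : μ ≠ 0) (hz2 : ∀ v, z (z v) = (μ * μ) • v) (hN : frob hF μ * μ = 1 ∨ frob hF μ * μ = -1)
    (hns : ¬ ∃ c : Kˣ, z = sc c) : ∃ u : ι → K, hB hF ι u u = 1 ∧ hB hF ι (z u) u = 0 := by
  have hP1 : ∀ x, z (x + μ⁻¹ • z x) = μ • (x + μ⁻¹ • z x) := by
    intro x
    rw [map_add, map_smul, hz2, smul_add, smul_smul, smul_smul, mul_inv_cancel₀ hμ0, one_smul, ← mul_assoc,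
      inv_mul_cancel₀ hμ0, one_mul, add_comm]
  have hP2 : ∀ x, z (x - μ⁻¹ • z x) = -(μ • (x - μ⁻¹ • z x)) := by
    intro x
    rw [map_sub, map_smul, hz2, smul_sub, smul_smul, smul_smul, mul_inv_cancel₀ hμ0, one_smul, ← mul_assoc,
      inv_mul_cancel₀ hμ0, one_mul, neg_sub]
  have hsplit : ∀ x, x = (2 : K)⁻¹ • (x + μ⁻¹ • z x) + (2 : K)⁻¹ • (x - μ⁻¹ • z x) := by
    intro x
    rw [← smul_add, show x + μ⁻¹ • z x + (x - μ⁻¹ • z x) = (2 : K) • x by rw [two_smul]; abel, smul_smul,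
      inv_mul_cancel₀ two, one_smul]
  obtain ⟨e, he0, he⟩ : ∃ e : ι → K, e ≠ 0 ∧ z e = μ • e := by
    by_contra hcon
    push Not at hcon
    refine hns ⟨-(Units.mk0 μ hμ0), LinearEquiv.ext fun x => ?_⟩
    have h1 : x + μ⁻¹ • z x = 0 := by
      by_contra h
      exact hcon _ h (hP1 x)
    rw [sc_apply]
    have h2 : μ • (x + μ⁻¹ • z x) = 0 := by rw [h1, smul_zero]
    rw [smul_add, smul_smul, mul_inv_cancel₀ hμ0, one_smul] at h2
    rw [Units.val_neg, Units.val_mk0, neg_smul]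
    exact (neg_eq_of_add_eq_zero_right h2).symm
  obtain ⟨f, hf0, hf⟩ : ∃ f : ι → K, f ≠ 0 ∧ z f = -(μ • f) := by
    by_contra hcon
    push Not at hcon
    refine hns ⟨Units.mk0 μ hμ0, LinearEquiv.ext fun x => ?_⟩
    have h1 : x - μ⁻¹ • z x = 0 := by
      by_contra h
      exact hcon _ h (hP2 x)
    rw [sc_apply]
    have h2 : μ • (x - μ⁻¹ • z x) = 0 := by rw [h1, smul_zero]
    rw [smul_sub, smul_smul, mul_inv_cancel₀ hμ0, one_smul] at h2
    rw [Units.val_mk0]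
    exact (sub_eq_zero.1 h2).symm
  have hσ2 : frob hF (2 : K)⁻¹ = (2 : K)⁻¹ := by
    rw [map_inv₀, map_ofNat]
  -- products of eigenvectors
  have b11 : ∀ x y, z x = μ • x → z y = μ • y → hB hF ι x y = (frob hF μ * μ) * hB hF ι x y := by
    intro x y hx hy
    have h := hz x y
    rw [hx, hy, hB_smul_left, hB_smul_right] at h
    linear_combination -h
  have b22 : ∀ x y, z x = -(μ • x) → z y = -(μ • y) → hB hF ι x y = (frob hF μ * μ) * hB hF ι x y := by
    intro x y hx hy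
    have h := hz x y
    rw [hx, hy, ← neg_smul, ← neg_smul, hB_smul_left, hB_smul_right, map_neg] at h
    linear_combination -h
  have b12 : ∀ x y, z x = μ • x → z y = -(μ • y) → hB hF ι x y = -(frob hF μ * μ) * hB hF ι x y := by
    intro x y hx hy
    have h := hz x y
    rw [hx, hy, ← neg_smul, hB_smul_left, hB_smul_right] at h
    linear_combination -h
  rcases hN with hN | hN
  · -- orthogonal eigenspaces
    have h12 : ∀ x y, z x = μ • x → z y = -(μ • y) → hB hF ι x y = 0 := by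
      intro x y hx hy
      have h := b12 x y hx hy
      rw [hN] at h
      have h3 : (2 : K) * hB hF ι x y = 0 := by linear_combination h
      exact (mul_eq_zero.1 h3).resolve_left two
    have unit1 : ∃ e' : ι → K, z e' = μ • e' ∧ hB hF ι e' e' = 1 := by
      let U : Submodule K (ι → K) := LinearMap.ker (z.toLinearMap - μ • LinearMap.id)
      have hU : ∀ x, x ∈ U ↔ z x = μ • x := fun x => by
        change (z.toLinearMap - μ • LinearMap.id : (ι → K) →ₗ[K] (ι → K)) x = 0 ↔ _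
        simp only [LinearMap.sub_apply, LinearMap.smul_apply, LinearMap.id_apply, LinearEquiv.coe_coe]
        exact sub_eq_zero
      have hn : ∀ x ∈ U, (∀ y ∈ U, hB hF ι x y = 0) → x = 0 := by
        intro x hx h
        refine hB_nondeg' hF fun y => ?_
        rw [hsplit y, map_add, map_smul, map_smul, h _ ((hU _).2 (hP1 y)), h12 x _ ((hU x).1 hx) (hP2 y)]
        simp
      obtain ⟨f', hf1, hf2⟩ := exists_onb hF U hn
      have hpos : 0 < finrank K U := by
        rw [Module.finrank_pos_iff_exists_ne_zero]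
        exact ⟨⟨e, (hU e).2 he⟩, fun h => he0 (congrArg Subtype.val h)⟩
      exact ⟨f' ⟨0, hpos⟩, (hU _).1 (hf1 _), by rw [hf2, if_pos rfl]⟩
    have unit2 : ∃ e' : ι → K, z e' = -(μ • e') ∧ hB hF ι e' e' = 1 := by
      let U : Submodule K (ι → K) := LinearMap.ker (z.toLinearMap + μ • LinearMap.id)
      have hU : ∀ x, x ∈ U ↔ z x = -(μ • x) := fun x => by
        change (z.toLinearMap + μ • LinearMap.id : (ι → K) →ₗ[K] (ι → K)) x = 0 ↔ _
        simp only [LinearMap.add_apply, LinearMap.smul_apply, LinearMap.id_apply, LinearEquiv.coe_coe]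
        exact add_eq_zero_iff_eq_neg
      have hn : ∀ x ∈ U, (∀ y ∈ U, hB hF ι x y = 0) → x = 0 := by
        intro x hx h
        refine hB_nondeg' hF fun y => ?_
        rw [hsplit y, map_add, map_smul, map_smul, h _ ((hU _).2 (hP2 y)), ← hB_symm, h12 _ x (hP1 y) ((hU x).1 hx)]
        simp
      obtain ⟨f', hf1, hf2⟩ := exists_onb hF U hn
      have hpos : 0 < finrank K U := by
        rw [Module.finrank_pos_iff_exists_ne_zero]
        exact ⟨⟨f, (hU f).2 hf⟩, fun h => hf0 (congrArg Subtype.val h)⟩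
      exact ⟨f' ⟨0, hpos⟩, (hU _).1 (hf1 _), by rw [hf2, if_pos rfl]⟩
    obtain ⟨e1, he1, he1'⟩ := unit1
    obtain ⟨e2, he2, he2'⟩ := unit2
    obtain ⟨s, hs⟩ := Cfsg.Agent.LieClassical.HermBasic.exists_norm_eq hF (c := (2 : K)⁻¹) hσ2
    have hs' : frob hF s * s = (2 : K)⁻¹ := by rw [frob_apply, mul_comm]; exact hs
    have h12' := h12 e1 e2 he1 he2
    have h21' : hB hF ι e2 e1 = 0 := by rw [← hB_symm, h12', map_zero]
    refine ⟨s • (e1 + e2), ?_, ?_⟩
    · rw [hB_smul_left, hB_smul_right, hB_add_left, hB_add_right, hB_add_right, he1', he2', h12', h21']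
      have : frob hF s * (s * (1 + 0 + (0 + 1))) = (frob hF s * s) * 2 := by ring
      rw [this, hs', inv_mul_cancel₀ two]
    · have hzu : z (s • (e1 + e2)) = (s * μ) • (e1 - e2) := by
        rw [map_smul, map_add, he1, he2, mul_smul, smul_sub]
        congr 1
        rw [sub_eq_add_neg]
      rw [hzu, hB_smul_left, hB_smul_right, hB_sub_left, hB_add_right, hB_add_right, he1', he2', h12', h21']
      ring
  · -- isotropic eigenspaces
    have h11 : ∀ x y, z x = μ • x → z y = μ • y → hB hF ι x y = 0 := by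
      intro x y hx hy
      have h := b11 x y hx hy
      rw [hN] at h
      have h3 : (2 : K) * hB hF ι x y = 0 := by linear_combination h
      exact (mul_eq_zero.1 h3).resolve_left two
    have h22 : ∀ x y, z x = -(μ • x) → z y = -(μ • y) → hB hF ι x y = 0 := by
      intro x y hx hy
      have h := b22 x y hx hy
      rw [hN] at h
      have h3 : (2 : K) * hB hF ι x y = 0 := by linear_combination h
      exact (mul_eq_zero.1 h3).resolve_left two
    obtain ⟨y, hy, hy'⟩ : ∃ y, z y = -(μ • y) ∧ hB hF ι e y ≠ 0 := by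
      by_contra hcon
      push Not at hcon
      apply he0
      refine hB_nondeg' hF fun y => ?_
      rw [hsplit y, map_add, map_smul, map_smul, h11 e _ he (hP1 y), hcon _ (hP2 y)]
      simp
    obtain ⟨f', hzf', hef⟩ : ∃ f', z f' = -(μ • f') ∧ hB hF ι e f' = 1 := by
      refine ⟨(hB hF ι e y)⁻¹ • y, ?_, ?_⟩
      · rw [map_smul, hy, smul_neg, smul_comm]
      · rw [hB_smul_right, inv_mul_cancel₀ hy']
    have hfe : hB hF ι f' e = 1 := by rw [← hB_symm, hef, map_one]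
    have hee := h11 e e he he
    have hff := h22 f' f' hzf' hzf'
    refine ⟨(2 : K)⁻¹ • e + f', ?_, ?_⟩
    · rw [hB_add_left, hB_add_right, hB_add_right, hB_smul_left, hB_smul_left, hB_smul_right, hB_smul_right, hef, hfe, hee, hff, hσ2]
      field_simp
      ring
    · have hzu : z ((2 : K)⁻¹ • e + f') = μ • ((2 : K)⁻¹ • e - f') := by
        rw [map_add, map_smul, he, hzf', smul_sub, smul_comm, sub_eq_add_neg]
      rw [hzu, hB_smul_left, hB_sub_left, hB_add_right, hB_add_right, hB_smul_left, hB_smul_left, hB_smul_right, hB_smul_right,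
        hef, hfe, hee, hff, hσ2]
      ring

section h2

variable {α β : Type*} [Fintype α] [DecidableEq α] [Fintype β] [DecidableEq β]

/-- an orthonormal pair can be moved to a coordinate block -/
theorem exists_iso_pair {u w : Ix α β → K} (huu : hB hF (Ix α β) u u = 1) (hww : hB hF (Ix α β) w w = 1)
    (hwu : hB hF (Ix α β) w u = 0) (a : α) :
    ∃ k ∈ gu hF (Ix α β), k u = Pi.single (Sum.inl (a, 0)) 1 ∧ k w = Pi.single (Sum.inl (a, 1)) 1 := by
  have huw : hB hF (Ix α β) u w = 0 := by rw [← hB_symm, hwu, map_zero]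
  let T : (Ix α β → K) →ₗ[K] K × K := (hB hF (Ix α β) u).prod (hB hF (Ix α β) w)
  have hT : ∀ x, T x = (hB hF (Ix α β) u x, hB hF (Ix α β) w x) := fun x => rfl
  let U := LinearMap.ker T
  have hU : ∀ x, x ∈ U ↔ hB hF (Ix α β) u x = 0 ∧ hB hF (Ix α β) w x = 0 := by
    intro x
    rw [LinearMap.mem_ker, hT, Prod.mk_eq_zero]
  have hn : ∀ x ∈ U, (∀ y ∈ U, hB hF (Ix α β) x y = 0) → x = 0 := by
    intro x hx h
    obtain ⟨hx1, hx2⟩ := (hU x).1 hx
    refine hB_nondeg' hF fun y => ?_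
    have hy : y - hB hF (Ix α β) u y • u - hB hF (Ix α β) w y • w ∈ U := by
      rw [hU]
      constructor
      · rw [hB_sub_right, hB_sub_right, hB_smul_right, hB_smul_right, huu, huw]
        ring
      · rw [hB_sub_right, hB_sub_right, hB_smul_right, hB_smul_right, hww, hwu]
        ring
    have h1 := h _ hy
    rw [hB_sub_right, hB_sub_right, hB_smul_right, hB_smul_right, ← hB_symm hF u x, ← hB_symm hF w x, hx1, hx2, map_zero] at h1
    linear_combination h1
  obtain ⟨f2, hf2, hf2'⟩ := exists_onb hF U hn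
  have hsurj : Function.Surjective T := by
    rintro ⟨x, y⟩
    refine ⟨x • u + y • w, ?_⟩
    rw [hT, hB_add_right, hB_add_right, hB_smul_right, hB_smul_right, hB_smul_right, hB_smul_right, huu, huw, hww, hwu]
    ext <;> simp
  have hfin : 2 + finrank K U = Fintype.card (Ix α β) := by
    have h1 := LinearMap.finrank_range_add_finrank_ker T
    rw [LinearMap.range_eq_top.2 hsurj, finrank_top, Module.finrank_prod, Module.finrank_self,
      Module.finrank_fintype_fun_eq_card] at h1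
    exact h1
  let σ0 : Ix α β ≃ Fin 2 ⊕ Fin (finrank K U) := Fintype.equivOfCardEq (by simp [← hfin])
  have h0 : (Sum.inl (a, 0) : Ix α β) ≠ Sum.inl (a, 1) := by simp
  have h0' : σ0.symm (Sum.inl 0) ≠ σ0.symm (Sum.inl 1) := fun h => absurd (σ0.symm.injective h) (by simp)
  obtain ⟨π, hπ0, hπ1⟩ := exists_perm_two h0 h0'
  let σ := π.trans σ0
  have hσ0 : σ (Sum.inl (a, 0)) = Sum.inl 0 := by
    change σ0 (π _) = _
    rw [hπ0, Equiv.apply_symm_apply]
  have hσ1 : σ (Sum.inl (a, 1)) = Sum.inl 1 := by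
    change σ0 (π _) = _
    rw [hπ1, Equiv.apply_symm_apply]
  obtain ⟨k, hk, hki⟩ := exists_iso_of_two hF σ ![u, w] f2 (by
    intro i j
    fin_cases i <;> fin_cases j
    · simpa using huu
    · simpa using huw
    · simpa using hwu
    · simpa using hww) hf2' (by
    intro i j
    obtain ⟨h1, h2⟩ := (hU _).1 (hf2 j)
    fin_cases i
    · exact h1
    · exact h2)
  have hkk : ∀ v, k (k⁻¹ v) = v := fun v => by
    rw [← LinearEquiv.mul_apply, mul_inv_cancel]; rfl
  refine ⟨k, hk, ?_, ?_⟩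
  · have h1 := hki (Sum.inl (a, 0))
    rw [hσ0] at h1
    change k⁻¹ _ = u at h1
    rw [← h1, hkk]
  · have h1 := hki (Sum.inl (a, 1))
    rw [hσ1] at h1
    change k⁻¹ _ = w at h1
    rw [← h1, hkk]

theorem hB_two (u v : Fin 2 → K) : hB hF (Fin 2) u v = frob hF (u 0) * v 0 + frob hF (u 1) * v 1 := by
  rw [hB_apply, Fin.sum_univ_two]

/-- the matrix `y` -/
theorem exists_y {μ ν : K} (hμν : μ * ν = 1) (hN : frob hF μ * μ = 1 ∨ frob hF μ * μ = -1) (two : (2 : K) ≠ 0) :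
    ∃ y ∈ gu hF (Fin 2), LinearEquiv.det y = 1 ∧ ∀ x : Fin 2 → K, y ![(μ * μ) * x 1, x 0] = -![(μ * μ) * y x 1, y x 0] := by
  obtain ⟨A, B, hAB, c1, c2, c3, c4⟩ : ∃ A B : K, B * B - A * A = 1 ∧
      frob hF A * A + frob hF ν * ν * (frob hF B * B) = 1 ∧
      frob hF A * μ * B + frob hF ν * frob hF B * A = 0 ∧
      frob hF μ * frob hF B * A + frob hF A * ν * B = 0 ∧
      frob hF μ * μ * (frob hF B * B) + frob hF A * A = 1 := by
    have hσν : frob hF μ * frob hF ν = 1 := by rw [← map_mul, hμν, map_one]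
    rcases hN with hN | hN
    · have hN' : frob hF ν * ν = 1 := by
        have : (frob hF μ * μ) * (frob hF ν * ν) = 1 := by linear_combination (μ * ν) * hσν + hμν
        rw [hN, one_mul] at this
        exact this
      refine ⟨0, 1, by ring, ?_, ?_, ?_, ?_⟩
      · simp [hN']
      · simp
      · simp
      · simp [hN]
    · have hN' : frob hF ν * ν = -1 := by
        have : (frob hF μ * μ) * (frob hF ν * ν) = 1 := by linear_combination (μ * ν) * hσν + hμν
        rw [hN] at this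
        linear_combination -this
      have hν : frob hF ν = -μ := by
        have h1 : frob hF ν * (ν * μ) = -μ := by
          rw [← mul_assoc, hN']; ring
        rwa [mul_comm ν μ, hμν, mul_one] at h1
      have hμ' : frob hF μ = -ν := by
        have h1 : frob hF μ * (μ * ν) = -ν := by
          rw [← mul_assoc, hN]; ring
        rwa [hμν, mul_one] at h1
      obtain ⟨s, hs0, hs⟩ := exists_skew hF
      have h4 : (4 : K) ≠ 0 := by
        have : (4 : K) = 2 * 2 := by norm_num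
        rw [this]
        exact mul_ne_zero two two
      have h4s : frob hF ((4 * s)⁻¹) = -(4 * s)⁻¹ := by
        rw [map_inv₀, map_mul, hs, map_ofNat, mul_neg, inv_neg]
      obtain ⟨r, hr⟩ : ∃ r, r = (4 * s)⁻¹ := ⟨_, rfl⟩
      have hrs : 4 * (r * s) = 1 := by
        rw [hr]; field_simp
      rw [← hr] at h4s
      refine ⟨s - r, s + r, by linear_combination hrs, ?_, ?_, ?_, ?_⟩
      · rw [map_sub, map_add, hs, h4s, hN']
        linear_combination hrs
      · rw [map_sub, map_add, hs, h4s, hν]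
        ring
      · rw [map_sub, map_add, hs, h4s, hμ']
        ring
      · rw [map_sub, map_add, hs, h4s, hN]
        linear_combination hrs
  refine ⟨m2 A (-(μ * B)) (ν * B) (-A) (by linear_combination hAB + (B * B) * hμν), ?_, det_m2 _ _ _ _ _, ?_⟩
  · intro x v
    rw [m2_apply, m2_apply, hB_two, hB_two]
    simp only [Matrix.cons_val_zero, Matrix.cons_val_one, map_add, map_mul, map_neg]
    linear_combination (frob hF (x 0) * v 0) * c1 - (frob hF (x 0) * v 1) * c2 - (frob hF (x 1) * v 0) * c3 +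
      (frob hF (x 1) * v 1) * c4
  · intro x
    rw [m2_apply, m2_apply]
    funext i
    fin_cases i
    · simp
      linear_combination (μ * B * x 0) * hμν
    · simp
      linear_combination (μ * B * x 1) * hμν

theorem gu_h2 [Nonempty α] (two : (2 : K) ≠ 0) (z : (Ix α β → K) ≃ₗ[K] (Ix α β → K)) (hzU : z ∈ gu hF (Ix α β)) {c : Kˣ}
    (hz2 : z * z = sc c) (hns : ¬ ∃ c : Kˣ, z = sc c) :
    ∃ w ∈ gu hF (Ix α β), LinearEquiv.det w = 1 ∧ ∃ k ∈ gu hF (Ix α β), ∃ i j, i ≠ j ∧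
      w * z * w⁻¹ = z * (k * tt i j * k⁻¹) ∧ z * (k * tt i j * k⁻¹) = (k * tt i j * k⁻¹) * z := by
  obtain ⟨a⟩ := ‹Nonempty α›
  have hzz : ∀ v, z (z v) = (c : K) • v := fun v => by
    rw [← LinearEquiv.mul_apply, hz2, sc_apply]
  have hcN : frob hF (c : K) * c = 1 := by
    have h1 : hB hF (Ix α β) (z (z (Pi.single (Sum.inl (a, 0)) 1))) (z (z (Pi.single (Sum.inl (a, 0)) 1))) =
        hB hF (Ix α β) (Pi.single (Sum.inl (a, 0)) 1) (Pi.single (Sum.inl (a, 0)) 1) := by rw [hzU, hzU]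
    rw [hzz, hB_smul_left, hB_smul_right, hB_single_left, Pi.single_eq_same, mul_one] at h1
    exact h1
  obtain ⟨μ, hμ⟩ := exists_sqrt hF two hcN
  have hμ0 : μ ≠ 0 := by
    rintro rfl
    rw [mul_zero] at hμ
    exact c.ne_zero hμ.symm
  have hN : frob hF μ * μ = 1 ∨ frob hF μ * μ = -1 := by
    rw [← mul_self_eq_one_iff]
    rw [← hμ, map_mul] at hcN
    linear_combination hcN
  obtain ⟨u, hu1, hu2⟩ := exists_u hF two hzU hμ0 (fun v => by rw [hμ]; exact hzz v) hN hns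
  obtain ⟨k, hk, hku, hkzu⟩ := exists_iso_pair hF hu1 (by rw [hzU]; exact hu1) hu2 a
  rw [← emb_single] at hku hkzu
  obtain ⟨z', hz'⟩ : ∃ z', z' = k * z * k⁻¹ := ⟨_, rfl⟩
  have hz'U : z' ∈ gu hF (Ix α β) := by
    rw [hz']
    exact (gu hF _).mul_mem ((gu hF _).mul_mem hk hzU) ((gu hF _).inv_mem hk)
  have hz'k : ∀ u, z' (k u) = k (z u) := by
    intro u
    rw [hz', LinearEquiv.mul_apply, LinearEquiv.mul_apply, ← LinearEquiv.mul_apply k⁻¹ k, inv_mul_cancel]
    rfl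
  have hz'2 : z' * z' = sc c := by
    have : z' * z' = k * (z * z) * k⁻¹ := by rw [hz']; group
    rw [this, hz2, ← sc_comm, mul_inv_cancel_right]
  have hz'0 : z' (emb β a (Pi.single 0 1)) = emb β a (Pi.single 1 1) := by rw [← hku, hz'k, hkzu]
  have hz'1 : z' (emb β a (Pi.single 1 1)) = (c : K) • emb β a (Pi.single 0 1) := by
    rw [← hz'0, ← LinearEquiv.mul_apply, hz'2, sc_apply]
  have hout : ∀ w : Ix α β → K, (∀ s, w (Sum.inl (a, s)) = 0) → ∀ s, z' w (Sum.inl (a, s)) = 0 := by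
    intro w hw s
    rw [← hB_single_left hF (Sum.inl (a, s)) (z' w), ← emb_single]
    fin_cases s
    · change hB hF (Ix α β) (emb β a (Pi.single 0 1)) (z' w) = 0
      have h1 : emb β a (Pi.single 0 (1 : K)) = (c : K)⁻¹ • z' (emb β a (Pi.single 1 1)) := by
        rw [hz'1, smul_smul, inv_mul_cancel₀ c.ne_zero, one_smul]
      rw [h1, hB_smul_left, hz'U, emb_single, hB_single_left, hw, mul_zero]
    · change hB hF (Ix α β) (emb β a (Pi.single 1 1)) (z' w) = 0
      rw [← hz'0, hz'U, emb_single, hB_single_left, hw]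
  have htt : ∀ s : Fin 2, tt (Sum.inl (a, 0)) (Sum.inl (a, 1)) (emb β a (Pi.single s (1 : K))) = -emb β a (Pi.single s 1) :=
    fun s => tt_emb a _
  have hcomm : z' * tt (Sum.inl (a, 0)) (Sum.inl (a, 1)) = tt (Sum.inl (a, 0)) (Sum.inl (a, 1)) * z' := by
    have hdec : ∀ u : Ix α β → K, ∃ x y : K, ∃ w : Ix α β → K, (∀ s, w (Sum.inl (a, s)) = 0) ∧
        u = x • emb β a (Pi.single 0 1) + y • emb β a (Pi.single 1 1) + w := by
      intro u
      refine ⟨u (Sum.inl (a, 0)), u (Sum.inl (a, 1)), u - (u (Sum.inl (a, 0)) • emb β a (Pi.single 0 1) +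
        u (Sum.inl (a, 1)) • emb β a (Pi.single 1 1)), ?_, by abel⟩
      intro s
      simp only [Pi.sub_apply, Pi.add_apply, Pi.smul_apply, emb_same]
      fin_cases s <;> simp
    apply LinearEquiv.ext
    intro u
    obtain ⟨x, y, w, hw, rfl⟩ := hdec u
    rw [LinearEquiv.mul_apply, LinearEquiv.mul_apply]
    simp only [map_add, map_smul, htt, map_neg, hz'0, hz'1]
    rw [tt_out a hw, tt_out a (hout w hw)]
    simp only [smul_neg]
  obtain ⟨y, hyU, hyd, hy⟩ := exists_y hF (mul_inv_cancel₀ hμ0) hN two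
  rw [hμ] at hy
  have hbc := block_conj (β := β) two hz'2 hz'0 hcomm hy
  have hJU : J (Pi.mulSingle a y, (1 : β → Kˣ)) ∈ gu hF (Ix α β) := by
    refine J_mem_gu hF (fun i => ?_) fun j => by simp
    change (Pi.mulSingle a y : α → _) i ∈ _
    rw [Pi.mulSingle_apply]; split_ifs
    · exact hyU
    · exact (gu hF (Fin 2)).one_mem
  refine ⟨k⁻¹ * J (Pi.mulSingle a y, 1) * k, (gu hF _).mul_mem ((gu hF _).mul_mem ((gu hF _).inv_mem hk) hJU) hk, ?_, k⁻¹,
    (gu hF _).inv_mem hk, Sum.inl (a, 0), Sum.inl (a, 1), by simp, ?_, ?_⟩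
  · rw [map_mul, map_mul, map_inv, det_block, hyd]
    simp
  · have e1 : k⁻¹ * J (Pi.mulSingle a y, (1 : β → Kˣ)) * k * z * (k⁻¹ * J (Pi.mulSingle a y, (1 : β → Kˣ)) * k)⁻¹ =
        k⁻¹ * (J (Pi.mulSingle a y, (1 : β → Kˣ)) * z' * (J (Pi.mulSingle a y, (1 : β → Kˣ)))⁻¹) * k := by
      rw [hz']; group
    rw [e1, hbc, hz', inv_inv]
    group
  · have e2 : z * (k⁻¹ * tt (Sum.inl (a, 0)) (Sum.inl (a, 1)) * k⁻¹⁻¹) = k⁻¹ * (z' * tt (Sum.inl (a, 0)) (Sum.inl (a, 1))) * k := by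
      rw [hz']; group
    have e3 : k⁻¹ * tt (Sum.inl (a, 0)) (Sum.inl (a, 1)) * k⁻¹⁻¹ * z = k⁻¹ * (tt (Sum.inl (a, 0)) (Sum.inl (a, 1)) * z') * k := by
      rw [hz']; group
    rw [e2, e3, hcomm]

end h2

/-- an isometry given by a matrix with the Gram matrix of a basis -/
theorem mem_gu_of_basis {k ρ : (Fin 2 → K) ≃ₗ[K] (Fin 2 → K)}
    (h : ∀ i j, hB hF (Fin 2) (k⁻¹ (ρ (Pi.single i 1))) (k⁻¹ (ρ (Pi.single j 1))) =
      hB hF (Fin 2) (k⁻¹ (Pi.single i 1)) (k⁻¹ (Pi.single j 1))) : k⁻¹ * ρ * k ∈ gu hF (Fin 2) := by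
  have key : ∀ x y : Fin 2 → K, hB hF (Fin 2) (k⁻¹ (ρ x)) (k⁻¹ (ρ y)) = hB hF (Fin 2) (k⁻¹ x) (k⁻¹ y) := by
    intro x y
    have hd : ∀ x : Fin 2 → K, x = x 0 • Pi.single 0 1 + x 1 • Pi.single 1 1 := by
      intro x
      funext i
      fin_cases i <;> simp
    have e1 : ∀ x : Fin 2 → K, k⁻¹ (ρ x) = x 0 • k⁻¹ (ρ (Pi.single 0 1)) + x 1 • k⁻¹ (ρ (Pi.single 1 1)) := by
      intro x
      conv_lhs => rw [hd x]
      simp only [map_add, map_smul]
    have e2 : ∀ x : Fin 2 → K, k⁻¹ x = x 0 • k⁻¹ (Pi.single 0 1) + x 1 • k⁻¹ (Pi.single 1 1) := by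
      intro x
      conv_lhs => rw [hd x]
      simp only [map_add, map_smul]
    rw [e1 x, e1 y, e2 x, e2 y]
    simp only [hB_add_left, hB_add_right, hB_smul_left, hB_smul_right, h]
  intro u v
  change hB hF (Fin 2) (k⁻¹ (ρ (k u))) (k⁻¹ (ρ (k v))) = _
  rw [key]
  have hkk : ∀ u, k⁻¹ (k u) = u := fun u => by
    rw [← LinearEquiv.mul_apply, inv_mul_cancel]; rfl
  rw [hkk, hkk]

/-- a 2-element of `SU_2` is inverted by a reflection of `GU_2` -/
theorem gu_h3 (two : (2 : K) ≠ 0) {x : (Fin 2 → K) ≃ₗ[K] (Fin 2 → K)} (hxU : x ∈ gu hF (Fin 2)) (hd : LinearEquiv.det x = 1)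
    {n : ℕ} (hn : x ^ 2 ^ n = 1) :
    ∃ ρ ∈ gu hF (Fin 2), ρ * ρ = 1 ∧ LinearEquiv.det ρ = -1 ∧ ρ * x * ρ⁻¹ = x⁻¹ := by
  by_cases hns : ∃ c : Kˣ, x = sc c
  · obtain ⟨c, rfl⟩ := hns
    have hcc : c * c = 1 := by
      rw [sc, det_dg, Fin.prod_univ_two] at hd
      exact hd
    set ρ : (Fin 2 → K) ≃ₗ[K] (Fin 2 → K) := dg (Pi.mulSingle 0 (-1)) with hρ
    have hρρ : ρ * ρ = 1 := by
      rw [hρ, ← map_mul, ← Pi.mulSingle_mul]
      simp
    have hq := odd_q hF two
    refine ⟨ρ, dg_mem_gu hF fun i => ?_, hρρ, ?_, ?_⟩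
    · rw [Pi.mulSingle_apply]; split_ifs
      · exact Even.neg_one_pow hq.add_one
      · exact one_pow _
    · rw [hρ, det_dg, Finset.prod_pi_mulSingle']
      simp
    · rw [← sc_comm, mul_inv_cancel_right, eq_inv_iff_mul_eq_one, ← sc_mul, hcc, sc]
      exact map_one dg
  -- the trace
  obtain ⟨k, τ, hk⟩ := companion hd hns
  have hkn : (m2 0 (-1) 1 τ (by ring) : (Fin 2 → K) ≃ₗ[K] (Fin 2 → K)) ^ 2 ^ n = 1 := by
    rw [← hk, conj_pow, hn, mul_one, mul_inv_cancel]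
  have hτ := trace_ne two hkn
  have h4 : (4 : K) ≠ 0 := by
    have : (4 : K) = 2 * 2 := by norm_num
    rw [this]
    exact mul_ne_zero two two
  -- the trace is fixed
  have hστ : frob hF τ = τ := by
    -- entries of `x`
    obtain ⟨a, ha⟩ : ∃ a, a = x (Pi.single 0 1) 0 := ⟨_, rfl⟩
    obtain ⟨c, hc⟩ : ∃ c, c = x (Pi.single 0 1) 1 := ⟨_, rfl⟩
    obtain ⟨b, hb⟩ : ∃ b, b = x (Pi.single 1 1) 0 := ⟨_, rfl⟩
    obtain ⟨d, hd'⟩ : ∃ d, d = x (Pi.single 1 1) 1 := ⟨_, rfl⟩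
    have e0 : (fun j' : Fin 2 => if j' = 0 then (1 : K) else 0) = Pi.single 0 1 := by
      funext j; rw [Pi.single_apply]
    have e1 : (fun j' : Fin 2 => if j' = 1 then (1 : K) else 0) = Pi.single 1 1 := by
      funext j; rw [Pi.single_apply]
    have hdet : a * d - b * c = 1 := by
      have h1 : LinearMap.det (x : (Fin 2 → K) →ₗ[K] (Fin 2 → K)) = 1 := by
        rw [← LinearEquiv.coe_det, hd, Units.val_one]
      rw [← LinearMap.det_toMatrix', Matrix.det_fin_two] at h1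
      simp only [LinearMap.toMatrix'_apply, LinearEquiv.coe_coe, e0, e1] at h1
      rw [ha, hb, hc, hd']
      exact h1
    have h00 : frob hF a * a + frob hF c * c = 1 := by
      have h1 := hxU (Pi.single 0 1) (Pi.single 0 1)
      rw [hB_two, hB_single_left, Pi.single_eq_same, ← ha, ← hc] at h1
      exact h1
    have h01 : frob hF a * b + frob hF c * d = 0 := by
      have h1 := hxU (Pi.single 0 1) (Pi.single 1 1)
      rw [hB_two, hB_single_left, ← ha, ← hc, ← hb, ← hd'] at h1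
      simpa using h1
    have h3 : frob hF a = d := by linear_combination (frob hF a) * (-hdet) + d * h00 - c * h01
    have h4 : frob hF d = a := by rw [← h3, frob_frob]
    have htr : τ = a + d := by
      have h5 : LinearMap.trace K (Fin 2 → K) (k * x * k⁻¹ : (Fin 2 → K) ≃ₗ[K] (Fin 2 → K)).toLinearMap =
          LinearMap.trace K (Fin 2 → K) x.toLinearMap := by
        have h6 : (k * x * k⁻¹ : (Fin 2 → K) ≃ₗ[K] (Fin 2 → K)).toLinearMap = k.conj x.toLinearMap := by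
          apply LinearMap.ext
          intro v
          rfl
        rw [h6, LinearMap.trace_conj']
      rw [hk, LinearMap.trace_eq_matrix_trace K (Pi.basisFun K (Fin 2)), LinearMap.trace_eq_matrix_trace K (Pi.basisFun K (Fin 2)),
        Matrix.trace_fin_two, Matrix.trace_fin_two] at h5
      simp only [LinearMap.toMatrix_apply, Pi.basisFun_apply, Pi.basisFun_repr, LinearEquiv.coe_coe, m2_apply, ← ha, ← hd'] at h5
      simpa using h5
    rw [htr, map_add, h3, h4, add_comm]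
  -- the eigenvalue
  obtain ⟨ξ, hξ⟩ : ∃ ξ : K, ξ * ξ - τ * ξ + 1 = 0 := by
    obtain ⟨δ, hδ⟩ : ∃ δ : K, δ * δ = τ * τ - 4 := by
      have hq := odd_q hF two
      have hch : ringChar K ≠ 2 := by
        intro h
        have : CharP K 2 := by rw [← h]; exact ringChar.charP K
        exact two CharTwo.two_eq_zero
      have h1 : (τ * τ - 4) ^ (q - 1) = 1 := by
        have h2 : (τ * τ - 4) ^ (q - 1) * (τ * τ - 4) = 1 * (τ * τ - 4) := by
          rw [← pow_succ, Nat.sub_add_cancel (by have := two_le hF; omega), ← frob_apply hF, map_sub, map_mul, hστ, map_ofNat,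
            one_mul]
        exact mul_right_cancel₀ hτ h2
      have h2 : (τ * τ - 4) ^ (Fintype.card K / 2) = 1 := by
        obtain ⟨r, hr⟩ := hq
        have : Fintype.card K / 2 = (q - 1) * (r + 1) := by
          rw [hF, hr]
          have : (2 * r + 1) ^ 2 = 2 * ((2 * r) * (r + 1)) + 1 := by ring
          rw [Nat.add_sub_cancel]
          omega
        rw [this, pow_mul, h1, one_pow]
      obtain ⟨δ, hδ⟩ := (FiniteField.isSquare_iff hch hτ).2 h2
      exact ⟨δ, hδ.symm⟩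
    refine ⟨(τ + δ) / 2, ?_⟩
    field_simp
    linear_combination hδ
  have hξ0 : ξ ≠ 0 := by
    rintro rfl
    simp at hξ
  have hτξ : τ = ξ + ξ⁻¹ := by
    field_simp
    linear_combination -hξ
  have hξξ : ξ * ξ ≠ 1 := by
    intro h
    apply hτ
    have : ξ⁻¹ = ξ := by
      rw [inv_eq_iff_eq_inv]
      exact eq_inv_of_mul_eq_one_left h
    rw [hτξ, this]
    linear_combination 4 * h
  -- the eigenvectors
  have hξd : (!![1, 1; -ξ, -ξ⁻¹] : Matrix (Fin 2) (Fin 2) K).det ≠ 0 := by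
    rw [Matrix.det_fin_two_of]
    intro h
    apply hξξ
    field_simp at h
    linear_combination h
  obtain ⟨P, hP⟩ : ∃ P : (Fin 2 → K) ≃ₗ[K] (Fin 2 → K), ∀ v, P v = ![v 0 + v 1, -ξ * v 0 - ξ⁻¹ * v 1] := by
    refine ⟨glEquiv (Matrix.GeneralLinearGroup.mkOfDetNeZero _ hξd), fun v => ?_⟩
    change (!![1, 1; -ξ, -ξ⁻¹] : Matrix (Fin 2) (Fin 2) K).mulVec v = _
    funext j
    fin_cases j <;> simp [Matrix.mulVec, dotProduct, Fin.sum_univ_two, sub_eq_add_neg]
  have hPP : ∀ v, P (P⁻¹ v) = v := fun v => by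
    rw [← LinearEquiv.mul_apply, mul_inv_cancel]; rfl
  set ξU : Kˣ := Units.mk0 ξ hξ0 with hξU
  obtain ⟨k2, hk2⟩ : ∃ k2, k2 = P⁻¹ * k := ⟨_, rfl⟩
  have hX : k2 * x * k2⁻¹ = dg ![ξU, ξU⁻¹] := by
    have h1 : k2 * x * k2⁻¹ = P⁻¹ * (k * x * k⁻¹) * P := by rw [hk2]; group
    rw [h1, hk, mul_assoc, inv_mul_eq_iff_eq_mul]
    apply LinearEquiv.ext
    intro v
    rw [LinearEquiv.mul_apply, LinearEquiv.mul_apply, hP, hP, m2_apply, dg_apply, dg_apply]
    funext j
    fin_cases j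
    · simp [hξU]
      field_simp
      ring
    · simp [hξU]
      rw [hτξ]
      field_simp
      ring
  obtain ⟨e, he⟩ : ∃ e, e = k2⁻¹ (Pi.single 0 1) := ⟨_, rfl⟩
  obtain ⟨f, hf⟩ : ∃ f, f = k2⁻¹ (Pi.single 1 1) := ⟨_, rfl⟩
  have hxk : ∀ v, x (k2⁻¹ v) = k2⁻¹ (dg ![ξU, ξU⁻¹] v) := by
    intro v
    rw [← hX, ← LinearEquiv.mul_apply, ← LinearEquiv.mul_apply]
    congr 1
    group
  have hxe : x e = ξ • e := by
    rw [he, hxk, ← map_smul]
    congr 1
    funext j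
    rw [dg_apply]
    fin_cases j <;> simp [hξU]
  have hxf : x f = ξ⁻¹ • f := by
    rw [hf, hxk, ← map_smul]
    congr 1
    funext j
    rw [dg_apply]
    fin_cases j <;> simp [hξU]
  have hspan : ∀ v, ∃ a b : K, v = a • e + b • f := by
    intro v
    refine ⟨k2 v 0, k2 v 1, ?_⟩
    rw [he, hf, ← map_smul, ← map_smul, ← map_add]
    have h1 : k2 v 0 • (Pi.single 0 1 : Fin 2 → K) + k2 v 1 • (Pi.single 1 1 : Fin 2 → K) = k2 v := by
      funext j
      fin_cases j <;> simp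
    rw [h1, ← LinearEquiv.mul_apply, inv_mul_cancel]
    rfl
  have hne : ∀ (g : (Fin 2 → K) ≃ₗ[K] (Fin 2 → K)) (i : Fin 2), g (Pi.single i 1) ≠ 0 := by
    intro g i h
    rw [LinearEquiv.map_eq_zero_iff] at h
    have := congrFun h i
    simp at this
  have he0 : e ≠ 0 := he ▸ hne _ _
  have hf0 : f ≠ 0 := hf ▸ hne _ _
  obtain ⟨E, hE⟩ : ∃ E, E = hB hF (Fin 2) e e := ⟨_, rfl⟩
  obtain ⟨F', hF'⟩ : ∃ F', F' = hB hF (Fin 2) f f := ⟨_, rfl⟩
  obtain ⟨H, hH⟩ : ∃ H, H = hB hF (Fin 2) e f := ⟨_, rfl⟩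
  have hfe : hB hF (Fin 2) f e = frob hF H := by rw [hH, hB_symm]
  have qE : frob hF ξ * ξ * E = E := by
    have h1 := hxU e e
    rw [hxe, hB_smul_left, hB_smul_right, ← hE] at h1
    linear_combination h1
  have qF : frob hF ξ⁻¹ * ξ⁻¹ * F' = F' := by
    have h1 := hxU f f
    rw [hxf, hB_smul_left, hB_smul_right, ← hF'] at h1
    linear_combination h1
  have qH : frob hF ξ * ξ⁻¹ * H = H := by
    have h1 := hxU e f
    rw [hxe, hxf, hB_smul_left, hB_smul_right, ← hH] at h1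
    linear_combination h1
  obtain ⟨c, hc0, hcE, hcH⟩ : ∃ c : K, c ≠ 0 ∧ frob hF c * c * F' = E ∧ frob hF c * c⁻¹ * frob hF H = H := by
    by_cases hσξ : frob hF ξ = ξ
    · have hE0 : E = 0 := by
        rw [hσξ] at qE
        have : (ξ * ξ - 1) * E = 0 := by linear_combination qE
        exact (mul_eq_zero.1 this).resolve_left (sub_ne_zero.2 hξξ)
      have hF0 : F' = 0 := by
        rw [map_inv₀, hσξ] at qF
        have : (ξ * ξ - 1) * F' = 0 := by
          have h2 : ξ⁻¹ * ξ⁻¹ * F' * (ξ * ξ) = F' := by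
            field_simp
          rw [qF] at h2
          linear_combination h2
        exact (mul_eq_zero.1 this).resolve_left (sub_ne_zero.2 hξξ)
      have hH0 : H ≠ 0 := by
        intro h
        apply he0
        refine hB_nondeg' hF fun v => ?_
        obtain ⟨a, b, rfl⟩ := hspan v
        rw [hB_add_right, hB_smul_right, hB_smul_right, ← hE, ← hH, hE0, h]
        ring
      have hσH0 : frob hF H ≠ 0 := (map_ne_zero _).2 hH0
      refine ⟨frob hF H, hσH0, ?_, ?_⟩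
      · rw [hF0, hE0, mul_zero]
      · rw [frob_frob, mul_assoc, inv_mul_cancel₀ hσH0, mul_one]
    · have hH0 : H = 0 := by
        have : (frob hF ξ - ξ) * H = 0 := by
          have h2 : frob hF ξ * ξ⁻¹ * H * ξ = frob hF ξ * H := by field_simp
          rw [qH] at h2
          linear_combination -h2
        exact (mul_eq_zero.1 this).resolve_left (sub_ne_zero.2 hσξ)
      have hE0 : E ≠ 0 := by
        intro h
        apply he0
        refine hB_nondeg' hF fun v => ?_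
        obtain ⟨a, b, rfl⟩ := hspan v
        rw [hB_add_right, hB_smul_right, hB_smul_right, ← hE, ← hH, hH0, h]
        ring
      have hF0 : F' ≠ 0 := by
        intro h
        apply hf0
        refine hB_nondeg' hF fun v => ?_
        obtain ⟨a, b, rfl⟩ := hspan v
        rw [hB_add_right, hB_smul_right, hB_smul_right, ← hF', hfe, hH0, h, map_zero]
        ring
      have hσ : (E / F') ^ q = E / F' := by
        rw [← frob_apply hF, map_div₀, hE, hF', hB_symm, hB_symm]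
      obtain ⟨c, hc0, hc⟩ := Cfsg.Agent.LieClassical.HermBasic.exists_norm_eq_ne hF hσ (div_ne_zero hE0 hF0)
      refine ⟨c, hc0, ?_, ?_⟩
      · rw [frob_apply, mul_comm (c ^ q), hc]
        field_simp
      · rw [hH0, map_zero, mul_zero]
  -- the reflection
  set cU : Kˣ := Units.mk0 c hc0 with hcU
  obtain ⟨ρ', hρ'⟩ : ∃ ρ' : (Fin 2 → K) ≃ₗ[K] (Fin 2 → K), ρ' = dg ![cU⁻¹, cU] * pm (swap 0 1) := ⟨_, rfl⟩
  have hr0 : ρ' (Pi.single 0 1) = c • Pi.single 1 1 := by
    funext j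
    rw [hρ', LinearEquiv.mul_apply, dg_apply, pm_apply]
    fin_cases j <;> simp [hcU]
  have hr1 : ρ' (Pi.single 1 1) = c⁻¹ • Pi.single 0 1 := by
    funext j
    rw [hρ', LinearEquiv.mul_apply, dg_apply, pm_apply]
    fin_cases j <;> simp [hcU]
  have hrr : ρ' * ρ' = 1 := by
    refine ext_single fun i => ?_
    rw [LinearEquiv.mul_apply]
    fin_cases i
    · change ρ' (ρ' (Pi.single 0 1)) = Pi.single 0 1
      rw [hr0, map_smul, hr1, smul_smul, mul_inv_cancel₀ hc0, one_smul]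
    · change ρ' (ρ' (Pi.single 1 1)) = Pi.single 1 1
      rw [hr1, map_smul, hr0, smul_smul, inv_mul_cancel₀ hc0, one_smul]
  have hrd : LinearEquiv.det ρ' = -1 := by
    rw [hρ', map_mul, det_dg, det_pm, Perm.sign_swap (by decide), Fin.prod_univ_two]
    simp
  have hrX : ρ' * dg ![ξU, ξU⁻¹] * ρ'⁻¹ = (dg ![ξU, ξU⁻¹])⁻¹ := by
    rw [mul_inv_eq_iff_eq_mul, ← map_inv]
    refine ext_single fun i => ?_
    have hd0 : ∀ a b : Kˣ, dg ![a, b] (Pi.single 0 (1 : K)) = (a : K) • Pi.single 0 1 := by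
      intro a b
      funext j
      rw [dg_apply]
      fin_cases j <;> simp
    have hd1 : ∀ a b : Kˣ, dg ![a, b] (Pi.single 1 (1 : K)) = (b : K) • Pi.single 1 1 := by
      intro a b
      funext j
      rw [dg_apply]
      fin_cases j <;> simp
    have hinv : (![ξU, ξU⁻¹] : Fin 2 → Kˣ)⁻¹ = ![ξU⁻¹, ξU] := by
      funext j
      fin_cases j <;> simp
    rw [hinv, LinearEquiv.mul_apply, LinearEquiv.mul_apply]
    fin_cases i
    · change ρ' (dg ![ξU, ξU⁻¹] (Pi.single 0 1)) = dg ![ξU⁻¹, ξU] (ρ' (Pi.single 0 1))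
      rw [hd0, map_smul, hr0, map_smul, hd1, smul_comm]
    · change ρ' (dg ![ξU, ξU⁻¹] (Pi.single 1 1)) = dg ![ξU⁻¹, ξU] (ρ' (Pi.single 1 1))
      rw [hd1, map_smul, hr1, map_smul, hd0, smul_comm]
  refine ⟨k2⁻¹ * ρ' * k2, ?_, ?_, ?_, ?_⟩
  · refine mem_gu_of_basis hF fun i j => ?_
    have e0 : k2⁻¹ (ρ' (Pi.single 0 1)) = c • f := by rw [hr0, map_smul, hf]
    have e1 : k2⁻¹ (ρ' (Pi.single 1 1)) = c⁻¹ • e := by rw [hr1, map_smul, he]
    fin_cases i <;> fin_cases j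
    · change hB hF (Fin 2) (k2⁻¹ (ρ' (Pi.single 0 1))) (k2⁻¹ (ρ' (Pi.single 0 1))) =
        hB hF (Fin 2) (k2⁻¹ (Pi.single 0 1)) (k2⁻¹ (Pi.single 0 1))
      rw [e0, ← he, hB_smul_left, hB_smul_right, ← hF', ← hE]
      linear_combination hcE
    · change hB hF (Fin 2) (k2⁻¹ (ρ' (Pi.single 0 1))) (k2⁻¹ (ρ' (Pi.single 1 1))) =
        hB hF (Fin 2) (k2⁻¹ (Pi.single 0 1)) (k2⁻¹ (Pi.single 1 1))
      rw [e0, e1, ← he, ← hf, hB_smul_left, hB_smul_right, hfe, ← hH]
      linear_combination hcH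
    · change hB hF (Fin 2) (k2⁻¹ (ρ' (Pi.single 1 1))) (k2⁻¹ (ρ' (Pi.single 0 1))) =
        hB hF (Fin 2) (k2⁻¹ (Pi.single 1 1)) (k2⁻¹ (Pi.single 0 1))
      rw [e0, e1, ← he, ← hf, hB_smul_left, hB_smul_right, hfe, ← hH]
      have h5 := congrArg (frob hF) hcH
      rw [map_mul, map_mul, frob_frob, frob_frob] at h5
      linear_combination h5
    · change hB hF (Fin 2) (k2⁻¹ (ρ' (Pi.single 1 1))) (k2⁻¹ (ρ' (Pi.single 1 1))) =
        hB hF (Fin 2) (k2⁻¹ (Pi.single 1 1)) (k2⁻¹ (Pi.single 1 1))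
      rw [e1, ← hf, hB_smul_left, hB_smul_right, ← hF', ← hE, ← hcE, map_inv₀]
      have hσc : frob hF c ≠ 0 := (map_ne_zero _).2 hc0
      field_simp
  · have : k2⁻¹ * ρ' * k2 * (k2⁻¹ * ρ' * k2) = k2⁻¹ * (ρ' * ρ') * k2 := by group
    rw [this, hrr]
    group
  · rw [map_mul, map_mul, hrd, map_inv]
    simp
  · have h2 : k2⁻¹ * ρ' * k2 * x * (k2⁻¹ * ρ' * k2)⁻¹ = k2⁻¹ * (ρ' * (k2 * x * k2⁻¹) * ρ'⁻¹) * k2 := by group
    rw [h2, hX, hrX, ← hX]
    group

end Cfsg.Agent.FooteOdd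

end

-- merged: Cfsg.Agent.FooteOdd.PSU
section

/-!
# `ClosedRow` for `PSU_n(q)`, `q` odd, `n ≥ 3` (helper63, S1252)
-/

set_option autoImplicit false
set_option linter.unusedVariables false
set_option linter.unusedSectionVars false

namespace Cfsg.Agent.FooteOdd

open Equiv Subgroup Cfsg Module
open Cfsg.Agent.LieClassical.GUOrder (frob frob_apply frob_frob two_le mem_GU_iff)
open Cfsg.Agent.LieClassical.SUBasic (mem_center_SU_iff suScalar)
open Matrix (SpecialLinearGroup)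

variable {K : Type*} [Field K] [Fintype K] {q : ℕ} (hF : Fintype.card K = q ^ 2)

theorem det_gu {ι : Type*} [Fintype ι] [DecidableEq ι] {g : (ι → K) ≃ₗ[K] (ι → K)} (hg : g ∈ gu hF ι) :
    LinearEquiv.det g ^ (q + 1) = 1 := by
  set M := LinearMap.toMatrix' g.toLinearMap with hM
  have h1 : (M.map (frob hF)).transpose * M = 1 := by
    ext i j
    have h2 := hg (Pi.single i 1) (Pi.single j 1)
    rw [hB_single_left, hB_apply] at h2
    rw [Matrix.mul_apply, Matrix.one_apply]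
    have h3 : ∀ a b, M a b = g (Pi.single b 1) a := by
      intro a b
      rw [hM, LinearMap.toMatrix'_apply, LinearEquiv.coe_coe]
    simp only [Matrix.transpose_apply, Matrix.map_apply, h3]
    rw [h2, Pi.single_apply]
  have h4 := congrArg Matrix.det h1
  rw [Matrix.det_mul, Matrix.det_transpose, Matrix.det_one, ← RingHom.mapMatrix_apply, ← RingHom.map_det, hM,
    LinearMap.det_toMatrix', ← LinearEquiv.coe_det, frob_apply, ← pow_succ] at h4
  exact Units.ext (by rw [Units.val_pow_eq_pow_val, h4, Units.val_one])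

theorem hB_reindex {ι κ : Type*} [Fintype ι] [Fintype κ] (e : ι ≃ κ) (u v : ι → K) :
    hB hF κ (LinearEquiv.funCongrLeft K K e.symm u) (LinearEquiv.funCongrLeft K K e.symm v) = hB hF ι u v := by
  rw [hB_apply, hB_apply]
  exact Equiv.sum_comp e.symm (fun i => frob hF (u i) * v i)

theorem cjE_mem_gu {ι κ : Type*} [Fintype ι] [Fintype κ] (e : ι ≃ κ) (g : (ι → K) ≃ₗ[K] (ι → K)) :
    cjE (LinearEquiv.funCongrLeft K K e.symm) g ∈ gu hF κ ↔ g ∈ gu hF ι := by
  constructor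
  · intro h u v
    have := h (LinearEquiv.funCongrLeft K K e.symm u) (LinearEquiv.funCongrLeft K K e.symm v)
    rw [cjE_apply, cjE_apply, LinearEquiv.symm_apply_apply, LinearEquiv.symm_apply_apply, hB_reindex, hB_reindex] at this
    exact this
  · intro h u v
    obtain ⟨u, rfl⟩ := (LinearEquiv.funCongrLeft K K e.symm).surjective u
    obtain ⟨v, rfl⟩ := (LinearEquiv.funCongrLeft K K e.symm).surjective v
    rw [cjE_apply, cjE_apply, LinearEquiv.symm_apply_apply, LinearEquiv.symm_apply_apply, hB_reindex, hB_reindex]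
    exact h u v

theorem herm_hB {n : ℕ} (u v : Fin n → K) : hermForm n K q u v = hB hF (Fin n) v u := by
  rw [hB_apply]
  exact Finset.sum_congr rfl fun i _ => mul_comm _ _

theorem glEquiv_mem {n : ℕ} (g : Matrix.GeneralLinearGroup (Fin n) K) : glEquiv g ∈ gu hF (Fin n) ↔ g ∈ Cfsg.GU n K q := by
  rw [mem_GU_iff]
  constructor
  · intro h u v
    rw [herm_hB hF, herm_hB hF]
    exact h v u
  · intro h u v
    have := h v u
    rw [herm_hB hF, herm_hB hF] at this
    exact this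

theorem card_gu {ι : Type*} [Fintype ι] [DecidableEq ι] {n : ℕ} (hn : Fintype.card ι = n) :
    Nat.card (gu hF ι) = q ^ (n * (n - 1) / 2) * ∏ i ∈ Finset.range n, (if Even i then q ^ (i + 1) + 1 else q ^ (i + 1) - 1) := by
  rw [← Cfsg.Agent.S0277.result hF n]
  have e : ι ≃ Fin n := Fintype.equivFinOfCardEq hn
  refine Nat.card_congr (Equiv.subtypeEquiv ((cjE (LinearEquiv.funCongrLeft K K e.symm)).trans glEquiv.symm).toEquiv fun g => ?_)
  change g ∈ gu hF ι ↔ glEquiv.symm (cjE (LinearEquiv.funCongrLeft K K e.symm) g) ∈ Cfsg.GU n K q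
  rw [← glEquiv_mem hF, MulEquiv.apply_symm_apply, cjE_mem_gu]

/-- the general unitary group -/
noncomputable def guSys (two : (2 : K) ≠ 0) (m r : ℕ) [Nonempty (Fin m)] (hr : r ≤ 1) : Sys K (Fin m) (Fin r) where
  L := gu hF _
  L2 := gu hF _
  D := (powMonoidHom (q + 1) : Kˣ →* Kˣ).ker
  neg := by
    rw [MonoidHom.mem_ker, powMonoidHom_apply]
    exact Even.neg_one_pow (odd_q hF two).add_one
  diag d hd := dg_mem_gu hF hd
  perm σ := pm_mem_gu hF σ
  blk p h1 h2 := J_mem_gu hF h1 h2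
  diag2 d hd := dg_mem_gu hF hd
  det_mem g hg := det_gu hF hg
  det2_mem g hg := det_gu hF hg
  h1 t htU ht := gu_h1 hF two t htU ht
  h2 z hzU _ hc hns := by
    obtain ⟨c, hc⟩ := hc
    exact gu_h2 hF two z hzU hc hns
  h3 x hxU hx hn := by
    obtain ⟨n, hn⟩ := hn
    exact gu_h3 hF two hxU hx hn
  h4 := by
    have hodd := odd_q hF two
    have h1 : 1 < q := two_le hF
    rw [card_gu hF (n := 2 * m + r) (by simp [mul_comm]), card_gu hF (n := 2) (by simp),
      Fintype.card_fin, Fintype.card_fin, Cfsg.Agent.LieClassical.GUOrder.card_ker_pow hF]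
    have e1 := Num.v2_gu hodd h1 m r ((2 * m + r) * (2 * m + r - 1) / 2) hr
    have e2 := Num.v2_gu hodd h1 1 0 (2 * (2 - 1) / 2) (by norm_num)
    simp only [Num.v2] at e1 e2
    rw [e1]
    simp only [mul_one, add_zero, one_mul, Nat.factorial_one, Nat.factorization_one, Finsupp.coe_zero, Pi.zero_apply,
      zero_mul] at e2
    rw [e2, Nat.card_perm, Nat.card_eq_fintype_card (α := Fin m), Fintype.card_fin]

theorem toSL_mulVec {ι : Type*} [Fintype ι] [DecidableEq ι] (g : ↥(LinearEquiv.det : ((ι → K) ≃ₗ[K] (ι → K)) →* Kˣ).ker)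
    (u : ι → K) : (toSL g : Matrix ι ι K).mulVec u = (g : (ι → K) ≃ₗ[K] (ι → K)) u := by
  have := LinearMap.congr_fun (toLin'_toSL g) u
  rwa [Matrix.toLin'_apply] at this

theorem toSL_mem_SU {n : ℕ} (g : ↥(LinearEquiv.det : ((Fin n → K) ≃ₗ[K] (Fin n → K)) →* Kˣ).ker) :
    toSL g ∈ Cfsg.SU n K q ↔ (g : (Fin n → K) ≃ₗ[K] (Fin n → K)) ∈ gu hF (Fin n) := by
  constructor
  · intro h u v
    have := h v u
    rw [herm_hB hF, herm_hB hF] at this
    change hB hF (Fin n) ((toSL g : Matrix (Fin n) (Fin n) K).mulVec u) ((toSL g : Matrix (Fin n) (Fin n) K).mulVec v) = _ at this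
    rwa [toSL_mulVec, toSL_mulVec] at this
  · intro h u v
    rw [herm_hB hF, herm_hB hF]
    change hB hF (Fin n) ((toSL g : Matrix (Fin n) (Fin n) K).mulVec v) ((toSL g : Matrix (Fin n) (Fin n) K).mulVec u) = _
    rw [toSL_mulVec, toSL_mulVec]
    exact h v u

/-- **`PSU_n(q)`, `q` odd, `n ≥ 3`.** -/
theorem closedRow_psu {n : ℕ} (hn : 3 ≤ n) {K : Type*} [Field K] [Fintype K] {q : ℕ} (hF : Fintype.card K = q ^ 2)
    (two : (2 : K) ≠ 0) : ClosedTwo.ClosedRow (PSU n K q) := by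
  have hm : Nonempty (Fin (n / 2)) := ⟨⟨0, by omega⟩⟩
  have hnn : Nonempty (Fin n) := ⟨⟨0, by omega⟩⟩
  set s := guSys hF two (n / 2) (n % 2) (by omega) with hs
  have hcard : Fintype.card (Ix (Fin (n / 2)) (Fin (n % 2))) = n := by
    simp; omega
  let e : Ix (Fin (n / 2)) (Fin (n % 2)) ≃ Fin n := Fintype.equivFinOfCardEq hcard
  have hΓ : s.Γ ≤ (LinearEquiv.det : _ →* Kˣ).ker := inf_le_right
  have hfinSU : Finite (SU n K q) := inferInstance
  have hfin : Finite (PSU n K q) := Finite.of_surjective (QuotientGroup.mk' (center (SU n K q))) (QuotientGroup.mk'_surjective _)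
  let φ : ↥s.Γ →* SU n K q := MonoidHom.codRestrict (toSL.comp ((reKer e).comp (inclusion hΓ))) (SU n K q) fun g => by
    change toSL (reKer e (inclusion hΓ g)) ∈ _
    rw [toSL_mem_SU hF]
    exact (cjE_mem_gu hF e _).2 g.2.1
  have hφ : Function.Surjective φ := by
    rintro ⟨A, hA⟩
    obtain ⟨g, rfl⟩ := toSL_surjective A
    obtain ⟨h, rfl⟩ := reKer_surjective e g
    rw [toSL_mem_SU hF] at hA
    exact ⟨⟨h, (cjE_mem_gu hF e _).1 hA, h.2⟩, rfl⟩
  let ψ : ↥s.Γ →* PSU n K q := (QuotientGroup.mk' (center (SU n K q))).comp φ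
  refine s.closed ?_ ψ ?_ ?_
  · by_cases h : n % 2 = 0
    · left
      have : 2 ≤ n / 2 := by omega
      exact Fin.nontrivial_iff_two_le.2 this
    · right
      exact ⟨⟨0, by omega⟩⟩
  · intro x
    obtain ⟨A, rfl⟩ := QuotientGroup.mk'_surjective _ x
    obtain ⟨g, rfl⟩ := hφ A
    exact ⟨g, rfl⟩
  · intro g
    have h1 : ψ g = 1 ↔ toSL (reKer e (inclusion hΓ g)) ∈ center (SpecialLinearGroup (Fin n) K) := by
      change (QuotientGroup.mk' (center (SU n K q))) (φ g) = 1 ↔ _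
      rw [QuotientGroup.mk'_apply, QuotientGroup.eq_one_iff]
      constructor
      · intro h
        obtain ⟨c, hcn, hcq, hc⟩ := (mem_center_SU_iff hF hn _).1 h
        rw [Matrix.SpecialLinearGroup.mem_center_iff]
        refine ⟨c, by rw [Fintype.card_fin]; exact hcn, ?_⟩
        have h2 := congrArg (fun X : SU n K q => ((X : SpecialLinearGroup (Fin n) K) : Matrix (Fin n) (Fin n) K)) hc
        exact h2.symm
      · intro h
        rw [mem_center_iff] at h ⊢
        intro B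
        exact Subtype.ext (h B)
    rw [h1, toSL_mem_center, reKer_scalar]
    rfl

end Cfsg.Agent.FooteOdd

end
end
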